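import Cfsg.Agent.Fischer.Refl.Signs

/-!
Reflections of one dimension more.
-/

set_option autoImplicit false
set_option linter.unusedSectionVars false

namespace Cfsg.Lib.Fischer.Refl

open Cfsg Subgroup Cfsg.Lib.ThreeTr
open LinearMap (BilinForm)

universe u

variable {G : Type u} [Group G] [Finite G]

/-- A form with one further coordinate of norm one. -/
noncomputable def extend {n : ℕ} (B : BilinForm (ZMod 3) (Fin n → ZMod 3)) :
    BilinForm (ZMod 3) (Fin (n + 1) → ZMod 3) :=
  let π : (Fin (n + 1) → ZMod 3) →ₗ[ZMod 3] (Fin n → ZMod 3) := LinearMap.funLeft (ZMod 3) (ZMod 3) Fin.castSucc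
  let l : (Fin (n + 1) → ZMod 3) →ₗ[ZMod 3] ZMod 3 := LinearMap.proj (Fin.last n)
  B.compl₁₂ π π + (LinearMap.mul (ZMod 3) (ZMod 3)).compl₁₂ l l

theorem extend_apply {n : ℕ} (B : BilinForm (ZMod 3) (Fin n → ZMod 3)) (v w : Fin (n + 1) → ZMod 3) :
    extend B v w = B (Fin.init v) (Fin.init w) + v (Fin.last n) * w (Fin.last n) := rfl

theorem extend_snoc {n : ℕ} (B : BilinForm (ZMod 3) (Fin n → ZMod 3)) (v w : Fin n → ZMod 3) (a b : ZMod 3) :
    extend B (Fin.snoc v a) (Fin.snoc w b) = B v w + a * b := by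
  rw [extend_apply, Fin.init_snoc, Fin.init_snoc, Fin.snoc_last, Fin.snoc_last]

theorem det_extend {n : ℕ} (B : BilinForm (ZMod 3) (Fin n → ZMod 3)) :
    (LinearMap.BilinForm.toMatrix' (extend B)).det = (LinearMap.BilinForm.toMatrix' B).det := by
  have h : LinearMap.BilinForm.toMatrix' (extend B) =
      Matrix.reindex finSumFinEquiv finSumFinEquiv
        (Matrix.fromBlocks (LinearMap.BilinForm.toMatrix' B) 0 0 (1 : Matrix (Fin 1) (Fin 1) (ZMod 3))) := by
    have e1 : ∀ k : Fin n, Fin.init (Pi.single k.castSucc (1 : ZMod 3) : Fin (n + 1) → ZMod 3) = Pi.single k 1 :=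
      fun k => funext fun i => by simp [Fin.init, Pi.single_apply]
    have e2 : Fin.init (Pi.single (Fin.last n) (1 : ZMod 3) : Fin (n + 1) → ZMod 3) = 0 :=
      funext fun i => by simp [Fin.init, Fin.castSucc_ne_last]
    ext i j
    rw [LinearMap.BilinForm.toMatrix'_apply, extend_apply, Matrix.reindex_apply, Matrix.submatrix_apply]
    refine Fin.lastCases ?_ (fun i' => ?_) i <;> refine Fin.lastCases ?_ (fun j' => ?_) j
    · simp [e2]
    · simp [e1, e2, Fin.castSucc_ne_last]
    · simp [e1, e2, Fin.castSucc_ne_last]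
    · simp [e1, LinearMap.BilinForm.toMatrix'_apply, Fin.castSucc_ne_last]
  rw [h, Matrix.det_reindex_self, Matrix.det_fromBlocks_zero₂₁, Matrix.det_one, mul_one]

namespace Ctx

variable {D : Set G} {d : G} {n : ℕ} (C : Ctx D d n)

open scoped Classical in
/-- The labels one dimension higher. -/
noncomputable def lift (c₀ x : G) : Fin (n + 1) → ZMod 3 :=
  if x = d then Fin.snoc 0 1
  else if Commute d x then Fin.snoc (C.f x) 0
  else Fin.snoc (C.sigma c₀ x • C.root x) 1

include C

theorem cases_mem {x : G} (hx : x ∈ D) : x = d ∨ x ∈ perp D d ∨ Out D d x := by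
  by_cases h : x = d
  · exact Or.inl h
  by_cases hc : Commute d x
  · exact Or.inr (Or.inl ⟨hx, h, hc⟩)
  · exact Or.inr (Or.inr ⟨hx, hc⟩)

theorem lift_d (c₀ : G) : C.lift c₀ d = Fin.snoc 0 1 := if_pos rfl

theorem lift_perp (c₀ : G) {x : G} (hx : x ∈ perp D d) : C.lift c₀ x = Fin.snoc (C.f x) 0 := by
  rw [lift, if_neg hx.2.1, if_pos hx.2.2]

theorem lift_out (c₀ : G) {x : G} (hx : Out D d x) :
    C.lift c₀ x = Fin.snoc (C.sigma c₀ x • C.root x) 1 := by
  rw [lift, if_neg (show x ≠ d from fun q => hx.2 (by rw [q])), if_neg hx.2]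

omit [Finite G] C in
theorem snoc_inj {v w : Fin n → ZMod 3} {a b : ZMod 3} :
    (Fin.snoc v a : Fin (n + 1) → ZMod 3) = Fin.snoc w b ↔ v = w ∧ a = b :=
  ⟨fun h => ⟨by simpa using congrArg Fin.init h, by simpa using congrFun h (Fin.last n)⟩,
    fun ⟨h1, h2⟩ => by rw [h1, h2]⟩

omit [Finite G] C in
theorem smul_snoc (k : ZMod 3) (v : Fin n → ZMod 3) (a : ZMod 3) :
    k • (Fin.snoc v a : Fin (n + 1) → ZMod 3) = Fin.snoc (k • v) (k * a) := by
  funext i
  refine Fin.lastCases ?_ (fun j => ?_) i <;> simp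

theorem out_ne {c : G} (hc : Out D d c) {c₀ : G} (h₀ : Out D d c₀) : C.sigma c₀ c • C.root c ≠ 0 :=
  smul_ne_zero (C.sigma_ne h₀ hc) (C.root_spec hc).1

/-- The two members over a point have opposite labels. -/
theorem twin_neg {c₀ c : G} (h₀ : Out D d c₀) (hc : Out D d c) :
    C.sigma c₀ (d * c * d) • C.root (d * c * d) = -(C.sigma c₀ c • C.root c) := by
  obtain ⟨a0, aa, -⟩ := C.root_spec hc
  obtain ⟨f, hf, hff⟩ := exists_partner C.symm C.nd a0 aa
  obtain ⟨s, hs, hsf⟩ := C.root_surj (fun e => one_ne_zero (by rw [← hf, e, map_zero])) hff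
  have hcs : C.B (C.root c) (C.root s) ≠ 0 := by
    rcases hsf with q | q <;> rw [q]
    · rw [hf]; exact one_ne_zero
    · rw [map_neg, hf]; decide
  obtain ⟨t, ht, htr, hte⟩ := C.eps_twin hc
  have e1 := C.sigma_edge h₀ hs hc (C.ne_symm' hcs)
  have e2 := C.sigma_edge h₀ hs (C.out_twin hc) (by rw [htr, map_smul]; exact mul_ne_zero ht (C.ne_symm' hcs))
  rw [hte s hs (C.ne_symm' hcs), ← e1] at e2
  have e3 : C.sigma c₀ (d * c * d) = -t * C.sigma c₀ c :=
    mul_left_cancel₀ (C.sigma_ne h₀ hs) (by rw [e2]; ring)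
  rw [e3, htr, smul_smul, ← neg_smul]
  congr 1
  rcases sign_cases ht with q | q <;> rw [q] <;> ring

theorem coords_lift {c₀ : G} (h₀ : Out D d c₀) :
    Coords D (fun v => extend C.B v v = 1) (fun v w => extend C.B v w) (C.lift c₀) where
  mem x hx := by
    rcases C.cases_mem hx with rfl | h | h
    · rw [C.lift_d, extend_snoc]; simp
    · rw [C.lift_perp c₀ h, extend_snoc, C.norm h]; simp
    · rw [C.lift_out c₀ h, extend_snoc]
      simp [(C.root_spec h).2.1]
  surj v hv := by
    obtain ⟨u, t, rfl⟩ : ∃ u t, v = Fin.snoc u t := ⟨Fin.init v, v (Fin.last n), (Fin.snoc_init_self v).symm⟩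
    rw [extend_snoc] at hv
    by_cases ht : t = 0
    · subst ht
      obtain ⟨x, hx, a, ha, hax⟩ := C.coords.surj u (by simpa using hv)
      exact ⟨x, hx.1, a, ha, by rw [C.lift_perp c₀ hx, smul_snoc, ← hax, mul_zero]⟩
    have htt : t * t = 1 := by rcases sign_cases ht with q | q <;> rw [q] <;> decide
    have huu : C.B u u = 0 := by rw [htt] at hv; simpa using hv
    by_cases hu : u = 0
    · exact ⟨d, C.hd, t, ht, by rw [C.lift_d, smul_snoc, hu, smul_zero, mul_one]⟩
    have hu' : t • u ≠ 0 := smul_ne_zero ht hu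
    obtain ⟨c, hc, hcu⟩ := C.root_surj hu' (by simp [huu])
    obtain ⟨x, hx, hxu⟩ : ∃ x, Out D d x ∧ C.sigma c₀ x • C.root x = t • u := by
      rcases pm_of_smul (C.sigma_ne h₀ hc) (C.root c) with p | p <;> rcases hcu with q | q
      · exact ⟨c, hc, by rw [p, q]⟩
      · exact ⟨_, C.out_twin hc, by rw [C.twin_neg h₀ hc, p, q, neg_neg]⟩
      · exact ⟨_, C.out_twin hc, by rw [C.twin_neg h₀ hc, p, neg_neg, q]⟩
      · exact ⟨c, hc, by rw [p, q, neg_neg]⟩
    exact ⟨x, hx.1, t, ht, by rw [C.lift_out c₀ hx, smul_snoc, hxu, smul_smul, htt, one_smul, mul_one]⟩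
  inj x hx y hy a e := by
    rcases C.cases_mem hx with rfl | h | h <;> rcases C.cases_mem hy with rfl | k | k
    · rfl
    · rw [C.lift_d, C.lift_perp c₀ k, smul_snoc, snoc_inj] at e
      have hk := C.norm k
      rw [e.1] at hk
      exact absurd hk (by simp)
    · rw [C.lift_d, C.lift_out c₀ k, smul_snoc, snoc_inj, smul_zero] at e
      exact absurd e.1 (C.out_ne k h₀)
    · rw [C.lift_d, C.lift_perp c₀ h, smul_snoc, snoc_inj, mul_zero] at e
      exact absurd e.2 one_ne_zero
    · rw [C.lift_perp c₀ h, C.lift_perp c₀ k, smul_snoc, snoc_inj] at e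
      exact C.coords.inj x h y k a e.1
    · rw [C.lift_perp c₀ h, C.lift_out c₀ k, smul_snoc, snoc_inj, mul_zero] at e
      exact absurd e.2 one_ne_zero
    · rw [C.lift_d, C.lift_out c₀ h, smul_snoc, snoc_inj, mul_one] at e
      rw [← e.2, one_smul] at e
      exact absurd e.1.symm (C.out_ne h h₀)
    · rw [C.lift_out c₀ h, C.lift_perp c₀ k, smul_snoc, snoc_inj, mul_one] at e
      have hk := C.norm k
      rw [e.1, ← e.2] at hk
      exact absurd hk (by simp)
    · rw [C.lift_out c₀ h, C.lift_out c₀ k, smul_snoc, snoc_inj, mul_one] at e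
      rw [← e.2, one_smul] at e
      have hpm : C.root y = C.root x ∨ C.root y = -C.root x := by
        rcases pm_of_smul (C.sigma_ne h₀ k) (C.root y) with p | p <;>
          rcases pm_of_smul (C.sigma_ne h₀ h) (C.root x) with q | q <;> have e1 := e.1 <;> rw [p, q] at e1
        exacts [Or.inl e1, Or.inr e1, Or.inr (neg_eq_iff_eq_neg.1 e1), Or.inl (neg_injective e1)]
      rcases C.eq_or_twin h k hpm with q | q
      · exact q.symm
      · have e1 := e.1
        rw [q, C.twin_neg h₀ h] at e1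
        refine absurd (funext fun i => ?_) (C.out_ne h h₀)
        have key : ∀ z : ZMod 3, -z = z → z = 0 := by decide
        exact key _ (congrFun e1 i)
  comm x hx y hy hne := by
    rcases C.cases_mem hx with rfl | h | h <;> rcases C.cases_mem hy with rfl | k | k
    · exact absurd rfl hne
    · rw [C.lift_d, C.lift_perp c₀ k, extend_snoc]
      simp [k.2.2]
    · rw [C.lift_d, C.lift_out c₀ k, extend_snoc]
      simp [k.2]
    · rw [C.lift_d, C.lift_perp c₀ h, extend_snoc]
      simp [h.2.2.symm]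
    · rw [C.lift_perp c₀ h, C.lift_perp c₀ k, extend_snoc, mul_zero, add_zero]
      exact C.coords.comm x h y k hne
    · rw [C.lift_perp c₀ h, C.lift_out c₀ k, extend_snoc, zero_mul, add_zero, map_smul, smul_eq_mul,
        mul_eq_zero, or_iff_right (C.sigma_ne h₀ k), ← C.commute_iff_root k h]
      exact ⟨fun q => q.symm, fun q => q.symm⟩
    · rw [C.lift_d, C.lift_out c₀ h, extend_snoc]
      refine iff_of_false (fun q => h.2 q.symm) ?_
      simp
    · rw [C.lift_out c₀ h, C.lift_perp c₀ k, extend_snoc, mul_zero, add_zero, C.bsymm, map_smul, smul_eq_mul,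
        mul_eq_zero, or_iff_right (C.sigma_ne h₀ h)]
      exact C.commute_iff_root h k
    · rw [C.lift_out c₀ h, C.lift_out c₀ k, extend_snoc, map_smul, map_smul, LinearMap.smul_apply, smul_eq_mul,
        smul_eq_mul]
      by_cases hB : C.B (C.root x) (C.root y) = 0
      · refine iff_of_false (C.not_commute_orth h k hne hB) ?_
        rw [hB]; simp
      · have hs := C.sigma_edge h₀ h k hB
        have hval : C.sigma c₀ y * (C.sigma c₀ x * C.B (C.root x) (C.root y)) + 1 * 1 = chi x y + 1 := by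
          rw [← mul_assoc, mul_comm (C.sigma c₀ y), hs, eps, mul_right_comm]
          rcases sign_cases hB with q | q <;> rw [q] <;> ring
        rw [hval]
        classical
        simp only [chi]
        by_cases hc : Commute x y
        · rw [if_pos hc]; exact iff_of_true hc (by decide)
        · rw [if_neg hc]; exact iff_of_false hc (by decide)

end Ctx

theorem stepR : StepR.{u} := by
  intro G _ _ D hD d hd n δ hn ⟨B, hs, hnd, hdet, f, hf⟩
  let C : Ctx D d n := ⟨hD, hd, hn, B, hs, hnd, f, hf⟩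
  obtain ⟨c₀, h₀⟩ := C.exists_out
  refine ⟨extend B, ⟨fun v w => ?_⟩, ?_, (det_extend B).trans hdet, C.lift c₀, C.coords_lift h₀⟩
  · rw [extend_apply, extend_apply, hs.eq, mul_comm]
  · have h1 := (LinearMap.BilinForm.nondegenerate_iff_det_ne_zero (Pi.basisFun (ZMod 3) (Fin n))).1 hnd
    refine (LinearMap.BilinForm.nondegenerate_iff_det_ne_zero (Pi.basisFun (ZMod 3) (Fin (n + 1)))).2 ?_
    rw [LinearMap.BilinForm.toMatrix_basisFun] at h1 ⊢
    rw [det_extend]
    exact h1

end Cfsg.Lib.Fischer.Refl
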