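import Mathlib

/-!
Symmetric forms over three elements: frames, partners of singular vectors and the vectors of norm one orthogonal to a
singular one.
-/

set_option autoImplicit false
set_option linter.unusedSectionVars false
set_option linter.style.haveILetI false

namespace Cfsg.Lib.Fischer.Refl

open LinearMap (BilinForm)
open Module (finrank)

variable {V : Type*} [AddCommGroup V] [Module (ZMod 3) V] [FiniteDimensional (ZMod 3) V]
variable {B : BilinForm (ZMod 3) V}

theorem sign_cases : ∀ {c : ZMod 3}, c ≠ 0 → c = 1 ∨ c = -1 := by decide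

theorem pm_of_smul {c : ZMod 3} (hc : c ≠ 0) (v : V) : c • v = v ∨ c • v = -v := by
  rcases sign_cases hc with rfl | rfl <;> simp

/-- Prescribed values against independent vectors. -/
theorem exists_eval (hs : B.IsSymm) (hn : B.Nondegenerate) {k : ℕ} {v : Fin k → V}
    (hv : LinearIndependent (ZMod 3) v) (c : Fin k → ZMod 3) : ∃ x, ∀ i, B (v i) x = c i := by
  obtain ⟨φ, hφ⟩ := LinearMap.exists_extend ((Module.Basis.span hv).constr (ZMod 3) c)
  refine ⟨(B.toDual hn).symm φ, fun i => ?_⟩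
  rw [hs.eq, BilinForm.apply_toDual_symm_apply]
  have := LinearMap.congr_fun hφ (Module.Basis.span hv i)
  rw [Module.Basis.constr_basis] at this
  simpa [Module.Basis.span_apply] using this

/-- The values of the form on a family. -/
def HasGram (B : BilinForm (ZMod 3) V) {k : ℕ} (v : Fin k → V) (M : Matrix (Fin k) (Fin k) (ZMod 3)) : Prop :=
  ∀ i j, B (v i) (v j) = M i j

/-- A matrix with no kernel, in a form that can be decided. -/
def Regular {k : ℕ} (M : Matrix (Fin k) (Fin k) (ZMod 3)) : Prop :=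
  ∀ x : Fin k → ZMod 3, (∀ j, ∑ i, x i * M i j = 0) → x = 0

/-- The vectors orthogonal to a family. -/
def compl (B : BilinForm (ZMod 3) V) {k : ℕ} (v : Fin k → V) : Submodule (ZMod 3) V :=
  B.orthogonal (Submodule.span (ZMod 3) (Set.range v))

theorem mem_compl {k : ℕ} {v : Fin k → V} {x : V} : x ∈ compl B v ↔ ∀ i, B (v i) x = 0 := by
  rw [compl, BilinForm.mem_orthogonal_iff]
  refine ⟨fun h i => h _ (Submodule.subset_span ⟨i, rfl⟩), fun h n hn => ?_⟩
  induction hn using Submodule.span_induction with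
  | mem u hu => obtain ⟨i, rfl⟩ := hu; exact h i
  | zero => simp
  | add u w _ _ hu hw => simp [hu, hw]
  | smul a u _ hu => simp [hu]

theorem gram_independent {k : ℕ} {v : Fin k → V} {M : Matrix (Fin k) (Fin k) (ZMod 3)} (hG : HasGram B v M)
    (hM : Regular M) : LinearIndependent (ZMod 3) v := by
  rw [Fintype.linearIndependent_iff]
  intro g hg i
  refine congrFun (hM g fun j => ?_) i
  have := congrArg (fun u => B u (v j)) hg
  simpa [hG _ j] using this

theorem compl_nondeg (hs : B.IsSymm) (hn : B.Nondegenerate) {k : ℕ} {v : Fin k → V}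
    {M : Matrix (Fin k) (Fin k) (ZMod 3)} (hG : HasGram B v M) (hM : Regular M) :
    (B.restrict (compl B v)).Nondegenerate ∧ finrank (ZMod 3) (compl B v) + k = finrank (ZMod 3) V := by
  set W := Submodule.span (ZMod 3) (Set.range v) with hW
  have hd : Disjoint W (B.orthogonal W) := by
    rw [Submodule.disjoint_def]
    intro x hx hx'
    obtain ⟨g, rfl⟩ := (Submodule.mem_span_range_iff_exists_fun (ZMod 3)).1 hx
    have : g = 0 := hM g fun j => by
      have h := mem_compl.1 hx' j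
      rw [hs.eq] at h
      simpa [hG _ j] using h
    simp [this]
  refine ⟨BilinForm.nondegenerate_restrict_of_disjoint_orthogonal B hs.isRefl ?_, ?_⟩
  · show Disjoint (B.orthogonal W) (B.orthogonal (B.orthogonal W))
    rw [BilinForm.orthogonal_orthogonal hn hs.isRefl]
    exact hd.symm
  · have h1 := BilinForm.finrank_orthogonal hn W
    have h2 : finrank (ZMod 3) W = k := by
      rw [hW, finrank_span_eq_card (gram_independent hG hM), Fintype.card_fin]
    have h3 := Submodule.finrank_le W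
    show finrank (ZMod 3) (B.orthogonal W) + k = _
    omega

theorem exists_aniso (hs : B.IsSymm) (hn : B.Nondegenerate) (hm : 1 ≤ finrank (ZMod 3) V) :
    ∃ x, B x x ≠ 0 := by
  haveI : Invertible (2 : ZMod 3) := invertibleOfNonzero (by decide)
  obtain ⟨e, he⟩ := LinearMap.BilinForm.exists_orthogonal_basis (BilinForm.isSymm_iff.1 hs)
  exact ⟨_, BilinForm.iIsOrtho.not_isOrtho_basis_self_of_nondegenerate he hn ⟨0, hm⟩⟩

/-- In dimension two or more, one is represented. -/
theorem exists_one (hs : B.IsSymm) (hn : B.Nondegenerate) (hm : 2 ≤ finrank (ZMod 3) V) : ∃ x, B x x = 1 := by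
  haveI : Invertible (2 : ZMod 3) := invertibleOfNonzero (by decide)
  obtain ⟨e, he⟩ := LinearMap.BilinForm.exists_orthogonal_basis (BilinForm.isSymm_iff.1 hs)
  have hne := BilinForm.iIsOrtho.not_isOrtho_basis_self_of_nondegenerate he hn
  set i : Fin (finrank (ZMod 3) V) := ⟨0, by omega⟩
  set j : Fin (finrank (ZMod 3) V) := ⟨1, by omega⟩
  rcases sign_cases (hne i) with h | h
  · exact ⟨_, h⟩
  rcases sign_cases (hne j) with h' | h'
  · exact ⟨_, h'⟩
  refine ⟨e i + e j, ?_⟩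
  have h1 : B (e i) (e j) = 0 := he (show i ≠ j by simp [i, j, Fin.ext_iff])
  simp only [map_add, LinearMap.add_apply, h, h', h1, hs.eq (e j) (e i)]
  decide

/-- A partner of a singular vector. -/
theorem exists_partner (hs : B.IsSymm) (hn : B.Nondegenerate) {r : V} (hr : r ≠ 0) (h0 : B r r = 0) :
    ∃ f, B r f = 1 ∧ B f f = 0 := by
  obtain ⟨g, hg⟩ := exists_eval hs hn (v := ![r]) (linearIndependent_unique_iff.2 (by simpa using hr)) ![1]
  have hg' : B r g = 1 := by simpa using hg 0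
  refine ⟨g + B g g • r, ?_, ?_⟩
  · simp [hg', h0]
  · simp only [map_add, map_smul, LinearMap.add_apply, LinearMap.smul_apply, smul_eq_mul, hg', h0, hs.eq g r]
    generalize B g g = q
    revert q; decide

/-- A partner orthogonal to a second singular vector. -/
theorem exists_partner₂ (hs : B.IsSymm) (hn : B.Nondegenerate) {r a : V} (hr : r ≠ 0) (h0 : B r r = 0)
    (h1 : B r a = 0) (hind : ∀ c : ZMod 3, c • r ≠ a) : ∃ f, B r f = 1 ∧ B a f = 0 ∧ B f f = 0 := by
  obtain ⟨g, hg⟩ := exists_eval hs hn (v := ![r, a]) ((LinearIndependent.pair_iff' hr).2 hind) ![1, 0]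
  have hg' : B r g = 1 := by simpa using hg 0
  have hg'' : B a g = 0 := by simpa using hg 1
  refine ⟨g + B g g • r, ?_, ?_, ?_⟩
  · simp [hg', h0]
  · simp [hg'', hs.eq a r, h1]
  · simp only [map_add, map_smul, LinearMap.add_apply, LinearMap.smul_apply, smul_eq_mul, hg', h0, hs.eq g r]
    generalize B g g = q
    revert q; decide

/-- In dimension four or more a singular vector is orthogonal to one of norm one. -/
theorem exists_one_orth (hs : B.IsSymm) (hn : B.Nondegenerate) (hm : 4 ≤ finrank (ZMod 3) V) {a : V}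
    (ha : B a a = 0) : ∃ w, B w w = 1 ∧ B a w = 0 := by
  by_cases ha0 : a = 0
  · obtain ⟨w, hw⟩ := exists_one hs hn (by omega)
    exact ⟨w, hw, by simp [ha0]⟩
  obtain ⟨f, hf, hff⟩ := exists_partner hs hn ha0 ha
  have hG : HasGram B ![a, f] ![![0, 1], ![1, 0]] := by
    intro i j; fin_cases i <;> fin_cases j <;> simp [ha, hf, hff, hs.eq f a]
  obtain ⟨hnd, hfr⟩ := compl_nondeg hs hn hG (by unfold Regular; decide)
  obtain ⟨w, hw⟩ := exists_one (hs.restrict _) hnd (by omega)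
  exact ⟨w, hw, mem_compl.1 w.2 0⟩

/-- A singular vector is known from the vectors of norm one orthogonal to it. -/
theorem trace_lemma (hs : B.IsSymm) (hn : B.Nondegenerate) {a a' : V} (ha : a ≠ 0) (haa : B a a = 0)
    (ha'0 : a' ≠ 0) (ha' : B a' a' = 0) (hw : ∃ w, B w w = 1 ∧ B a w = 0)
    (h : ∀ w, B w w = 1 → B a w = 0 → B a' w = 0) : a' = a ∨ a' = -a := by
  obtain ⟨w, hw1, hw2⟩ := hw
  have e1 := h w hw1 hw2
  have e2 := h (w + a) (by simp [hw1, haa, hw2, hs.eq w a]) (by simp [hw2, haa])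
  have e3 : B a' a = 0 := by simpa [e1] using e2
  by_cases hd : ∀ c : ZMod 3, c • a' ≠ a
  · exfalso
    obtain ⟨b, hb, hab, hbb⟩ := exists_partner₂ hs hn ha'0 ha' e3 hd
    have := h (a' + (2 : ZMod 3) • b) (by simp [ha', hb, hbb, hs.eq b a']; decide)
      (by simp [hs.eq a a', e3, hab])
    simp [ha', hb] at this
    exact absurd this (by decide)
  · push Not at hd
    obtain ⟨c, rfl⟩ := hd
    rcases pm_of_smul (c := c) (fun h => ha (by simp [h])) a' with h | h <;> rw [h] <;> simp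

/-- The same inside the vectors orthogonal to a frame. -/
theorem trace_compl (hs : B.IsSymm) (hn : B.Nondegenerate) {k : ℕ} {v : Fin k → V}
    {M : Matrix (Fin k) (Fin k) (ZMod 3)} (hG : HasGram B v M) (hM : Regular M) {a a' : V}
    (hav : ∀ i, B (v i) a = 0) (ha'v : ∀ i, B (v i) a' = 0) (ha : a ≠ 0) (haa : B a a = 0)
    (ha'0 : a' ≠ 0) (ha' : B a' a' = 0) (hw : ∃ w, (∀ i, B (v i) w = 0) ∧ B w w = 1 ∧ B a w = 0)
    (h : ∀ w, (∀ i, B (v i) w = 0) → B w w = 1 → B a w = 0 → B a' w = 0) : a' = a ∨ a' = -a := by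
  obtain ⟨w, hwv, hw1, hw2⟩ := hw
  rcases trace_lemma (hs.restrict (compl B v)) (compl_nondeg hs hn hG hM).1
    (a := ⟨a, mem_compl.2 hav⟩) (a' := ⟨a', mem_compl.2 ha'v⟩) (fun e => ha (congrArg Subtype.val e)) haa
    (fun e => ha'0 (congrArg Subtype.val e)) ha' ⟨⟨w, mem_compl.2 hwv⟩, hw1, hw2⟩
    (fun u hu hu' => h u (mem_compl.1 u.2) hu hu') with e | e
  · exact Or.inl (congrArg Subtype.val e)
  · exact Or.inr (congrArg Subtype.val e)

theorem one_orth_compl (hs : B.IsSymm) (hn : B.Nondegenerate) {k : ℕ} {v : Fin k → V}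
    {M : Matrix (Fin k) (Fin k) (ZMod 3)} (hG : HasGram B v M) (hM : Regular M)
    (hm : k + 4 ≤ finrank (ZMod 3) V) {a : V} (hav : ∀ i, B (v i) a = 0) (haa : B a a = 0) :
    ∃ w, (∀ i, B (v i) w = 0) ∧ B w w = 1 ∧ B a w = 0 := by
  obtain ⟨hnd, hfr⟩ := compl_nondeg hs hn hG hM
  obtain ⟨w, hw1, hw2⟩ := exists_one_orth (hs.restrict _) hnd (by omega) (a := ⟨a, mem_compl.2 hav⟩) haa
  exact ⟨w, mem_compl.1 w.2, hw1, hw2⟩

theorem one_in_compl (hs : B.IsSymm) (hn : B.Nondegenerate) {k : ℕ} {v : Fin k → V}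
    {M : Matrix (Fin k) (Fin k) (ZMod 3)} (hG : HasGram B v M) (hM : Regular M)
    (hm : k + 2 ≤ finrank (ZMod 3) V) : ∃ w, (∀ i, B (v i) w = 0) ∧ B w w = 1 := by
  obtain ⟨hnd, hfr⟩ := compl_nondeg hs hn hG hM
  obtain ⟨w, hw⟩ := exists_one (hs.restrict _) hnd (by omega)
  exact ⟨w, mem_compl.1 w.2, hw⟩

theorem aniso_in_compl (hs : B.IsSymm) (hn : B.Nondegenerate) {k : ℕ} {v : Fin k → V}
    {M : Matrix (Fin k) (Fin k) (ZMod 3)} (hG : HasGram B v M) (hM : Regular M)
    (hm : k + 1 ≤ finrank (ZMod 3) V) : ∃ w, (∀ i, B (v i) w = 0) ∧ B w w ≠ 0 := by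
  obtain ⟨hnd, hfr⟩ := compl_nondeg hs hn hG hM
  obtain ⟨w, hw⟩ := exists_aniso (hs.restrict _) hnd (by omega)
  exact ⟨w, mem_compl.1 w.2, hw⟩

theorem partner_in_compl (hs : B.IsSymm) (hn : B.Nondegenerate) {k : ℕ} {v : Fin k → V}
    {M : Matrix (Fin k) (Fin k) (ZMod 3)} (hG : HasGram B v M) (hM : Regular M) {r : V}
    (hrv : ∀ i, B (v i) r = 0) (hr : r ≠ 0) (h0 : B r r = 0) :
    ∃ f, (∀ i, B (v i) f = 0) ∧ B r f = 1 ∧ B f f = 0 := by
  obtain ⟨hnd, -⟩ := compl_nondeg hs hn hG hM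
  obtain ⟨f, hf, hff⟩ := exists_partner (hs.restrict _) hnd (r := ⟨r, mem_compl.2 hrv⟩)
    (fun e => hr (congrArg Subtype.val e)) h0
  exact ⟨f, mem_compl.1 f.2, hf, hff⟩

theorem partner₂_in_compl (hs : B.IsSymm) (hn : B.Nondegenerate) {k : ℕ} {v : Fin k → V}
    {M : Matrix (Fin k) (Fin k) (ZMod 3)} (hG : HasGram B v M) (hM : Regular M) {r a : V}
    (hrv : ∀ i, B (v i) r = 0) (hav : ∀ i, B (v i) a = 0) (hr : r ≠ 0) (h0 : B r r = 0) (h1 : B r a = 0)
    (hind : ∀ c : ZMod 3, c • r ≠ a) :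
    ∃ f, (∀ i, B (v i) f = 0) ∧ B r f = 1 ∧ B a f = 0 ∧ B f f = 0 := by
  obtain ⟨hnd, -⟩ := compl_nondeg hs hn hG hM
  obtain ⟨f, hf, haf, hff⟩ := exists_partner₂ (hs.restrict _) hnd (r := ⟨r, mem_compl.2 hrv⟩)
    (a := ⟨a, mem_compl.2 hav⟩) (fun e => hr (congrArg Subtype.val e)) h0 h1
    (fun c e => hind c (congrArg Subtype.val e))
  exact ⟨f, mem_compl.1 f.2, hf, haf, hff⟩

end Cfsg.Lib.Fischer.Refl
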