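import Cfsg.Agent.Fischer.Refl.Trace

/-!
The sections at the different members of a trace belong to one singular vector.
-/

set_option autoImplicit false
set_option linter.unusedSectionVars false

namespace Cfsg.Lib.Fischer.Refl

open Cfsg Subgroup Cfsg.Lib.ThreeTr
open LinearMap (BilinForm)
open Module (finrank)

universe u

variable {G : Type u} [Group G] [Finite G]

/-- The reflection in a vector of norm one over three elements, up to sign. -/
def rc {k : ℕ} (v x : Fin k → ZMod 3) : Fin k → ZMod 3 := fun i => x i + (∑ j, x j * v j) * v i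

/-- Four reflections with product cycling three coordinates. -/
def cycVec : Fin 4 → Fin 5 → ZMod 3 := ![![1, 1, 0, 1, 2], ![1, 1, 0, 2, 1], ![1, 1, 1, 0, 2], ![1, 1, 2, 0, 1]]

def cyc (x : Fin 5 → ZMod 3) : Fin 5 → ZMod 3 := rc (cycVec 0) (rc (cycVec 1) (rc (cycVec 2) (rc (cycVec 3) x)))

theorem cycVec_norm : ∀ i, ∑ j, cycVec i j * cycVec i j = 1 := by decide

theorem cyc_fix : cyc ![1, 0, 0, 0, 0] = ![1, 0, 0, 0, 0] ∧ cyc ![0, 1, 0, 0, 0] = ![0, 1, 0, 0, 0] ∧
    cyc ![0, 0, 1, 1, 1] = ![0, 0, 1, 1, 1] := by decide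

theorem cyc_stable : ∀ x : Fin 5 → ZMod 3, x 0 = 0 → x 1 = 0 → ∑ j, x j * x j = 0 →
    (cyc x = x ∨ cyc x = -x) → x = 0 ∨ x = ![0, 0, 1, 1, 1] ∨ x = -![0, 0, 1, 1, 1] := by decide +kernel

theorem regular_yz : Regular (![![1, 0], ![0, 1]] : Matrix (Fin 2) (Fin 2) (ZMod 3)) := by unfold Regular; decide

theorem regular_yzrf : Regular
    (![![1, 0, 0, 0], ![0, 1, 0, 0], ![0, 0, 0, 1], ![0, 0, 1, 0]] : Matrix (Fin 4) (Fin 4) (ZMod 3)) := by
  unfold Regular; decide

namespace Ctx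

variable {D : Set G} {d : G} {n : ℕ} (C : Ctx D d n)

/-- The reflection in a vector of norm one. -/
def refl (v : Fin n → ZMod 3) : (Fin n → ZMod 3) →ₗ[ZMod 3] (Fin n → ZMod 3) :=
  LinearMap.id + (C.B.flip v).smulRight v

/-- An element fixing `d` moves the labels by a linear map, up to sign. -/
def Moves (g : G) (M : (Fin n → ZMod 3) →ₗ[ZMod 3] (Fin n → ZMod 3)) : Prop :=
  Commute g d ∧ (∀ v w, C.B (M v) (M w) = C.B v w) ∧
    ∀ e ∈ perp D d, C.f (g * e * g⁻¹) = M (C.f e) ∨ C.f (g * e * g⁻¹) = -M (C.f e)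

include C

theorem refl_apply (v w : Fin n → ZMod 3) : C.refl v w = w + C.B w v • v := rfl

theorem refl_neg (v w : Fin n → ZMod 3) : C.refl (-v) w = C.refl v w := by simp [refl_apply]

theorem moves_self {x : G} (hx : x ∈ perp D d) : C.Moves x (C.refl (C.f x)) := by
  refine ⟨hx.2.2.symm, fun v w => ?_, fun e he => ?_⟩
  · simp only [refl_apply, map_add, map_smul, LinearMap.add_apply, LinearMap.smul_apply, smul_eq_mul, C.norm hx,
      C.bsymm (C.f x) w]
    have h3 : (3 : ZMod 3) = 0 := by decide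
    linear_combination (C.B v (C.f x) * C.B w (C.f x)) * h3
  · rw [inv_eq C.tr hx.1]
    exact C.conj_label hx he

theorem moves_mem {g : G} (hg : Commute g d) {e : G} (he : e ∈ perp D d) : g * e * g⁻¹ ∈ perp D d := by
  have h : g * e * g⁻¹ ∈ perp D (g * d * g⁻¹) := by rw [← conj_image_perp C.cls g d]; exact ⟨e, he, rfl⟩
  rwa [hg.eq, mul_inv_cancel_right] at h

theorem moves_mul {g h : G} {M N : (Fin n → ZMod 3) →ₗ[ZMod 3] (Fin n → ZMod 3)} (hg : C.Moves g M)
    (hh : C.Moves h N) : C.Moves (g * h) (M ∘ₗ N) := by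
  refine ⟨hg.1.mul_left hh.1, fun v w => (hg.2.1 _ _).trans (hh.2.1 v w), fun e he => ?_⟩
  rw [show g * h * e * (g * h)⁻¹ = g * (h * e * h⁻¹) * g⁻¹ by group]
  rcases hg.2.2 _ (C.moves_mem hh.1 he) with p | p <;> rcases hh.2.2 e he with q | q <;>
    simp [p, q]

theorem isTr_moves {g : G} {M : (Fin n → ZMod 3) →ₗ[ZMod 3] (Fin n → ZMod 3)} (hg : C.Moves g M) {c y : G}
    {r : Fin n → ZMod 3} (hy : y ∈ perp D d) (h : C.IsTr c y r) : C.IsTr (g * c * g⁻¹) (g * y * g⁻¹) (M r) := by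
  obtain ⟨hgd, hM, hlab⟩ := hg
  obtain ⟨h0, hrr, hyr, hT⟩ := h
  refine ⟨fun e => h0 (C.nd.1 r fun w => by rw [← hM, e, map_zero, LinearMap.zero_apply]), by rw [hM, hrr], ?_,
    fun e he hey => ?_⟩
  · rcases hlab y hy with q | q <;> simp [q, hM, hyr]
  have hgi : Commute g⁻¹ d := hgd.inv_left
  have he' : g⁻¹ * e * g ∈ perp D d := by simpa using C.moves_mem hgi he
  have hval : ∀ v, C.B (C.f e) (M v) = 0 ↔ C.B (C.f (g⁻¹ * e * g)) v = 0 := by
    intro v
    have heq : g * (g⁻¹ * e * g) * g⁻¹ = e := by group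
    rcases hlab _ he' with q | q <;> rw [heq] at q <;> simp [q, hM]
  have hey' : C.B (C.f (g⁻¹ * e * g)) (C.f y) = 0 := by
    refine (hval _).1 ?_
    rcases hlab y hy with q | q <;> rw [q] at hey <;> simpa using hey
  rw [hval, ← hT _ he' hey']
  have hd : g * d * g⁻¹ = d := by rw [hgd.eq, mul_inv_cancel_right]
  have key : ∀ x, (e ∈ perp D (g * x * g⁻¹)) ↔ g⁻¹ * e * g ∈ perp D x := fun x => by
    rw [← conj_image_perp C.cls g x]
    refine ⟨fun ⟨w, hw, hwe⟩ => ?_, fun hw => ⟨_, hw, by group⟩⟩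
    subst hwe
    rwa [show g⁻¹ * (g * w * g⁻¹) * g = w by group]
  show e ∈ perp D d ∧ e ∈ perp D (g * c * g⁻¹) ↔ g⁻¹ * e * g ∈ perp D d ∧ g⁻¹ * e * g ∈ perp D c
  conv_lhs => rw [← hd]
  rw [key, key]

/-- The exceptional configuration of two orthogonal members of a trace in dimension five. -/
theorem agree_frame (hn : n = 5) {c y z : G} {r s : Fin n → ZMod 3} (hc : c ∈ D) (hdc : ¬ Commute d c)
    (hy : y ∈ common D d c) (hz : z ∈ common D d c) (hzy : C.B (C.f z) (C.f y) = 0) (hr : C.IsTr c y r)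
    (hs : C.IsTr c z s) (hrz : C.B (C.f z) r = 0) (hsy : C.B (C.f y) s = 0) {f h : Fin n → ZMod 3}
    (hrf : C.B r f = 1) (hff : C.B f f = 0) (hyf : C.B (C.f y) f = 0) (hzf : C.B (C.f z) f = 0)
    (hyh : C.B (C.f y) h = 0) (hzh : C.B (C.f z) h = 0) (hrh : C.B r h = 0) (hfh : C.B f h = 0)
    (hhh : C.B h h = -1) : s = r ∨ s = -r := by
  subst hn
  have hyE : y ∈ perp D d := hy.1
  have hzE : z ∈ perp D d := hz.1
  set b : Fin 5 → Fin 5 → ZMod 3 := ![C.f y, C.f z, f - r, f + r + h, f + r - h] with hb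
  have hG : HasGram C.B b (1 : Matrix (Fin 5) (Fin 5) (ZMod 3)) := by
    intro i j
    fin_cases i <;> fin_cases j <;>
      simp [hb, C.norm hyE, C.norm hzE, hr.2.1, hr.2.2.1, hrf, hff, hyf, hzf, hyh, hzh, hrh, hfh, hhh, hrz,
        hzy, C.bsymm (C.f y) (C.f z), C.bsymm f r, C.bsymm r (C.f y), C.bsymm r (C.f z), C.bsymm f (C.f y),
        C.bsymm f (C.f z), C.bsymm h (C.f y), C.bsymm h (C.f z), C.bsymm h r, C.bsymm h f] <;> decide
  have hreg : Regular (1 : Matrix (Fin 5) (Fin 5) (ZMod 3)) := fun x hx => by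
    funext j
    simpa [Matrix.one_apply] using hx j
  set φ : (Fin 5 → ZMod 3) →ₗ[ZMod 3] (Fin 5 → ZMod 3) := Fintype.linearCombination (ZMod 3) b with hφ
  have hφB : ∀ x v, C.B (φ x) (φ v) = ∑ i, x i * v i := fun x v => by
    simp [hφ, Fintype.linearCombination_apply, hG _ _, Matrix.one_apply]
    exact Finset.sum_congr rfl fun i _ => mul_comm _ _
  have hφv : ∀ v x, C.refl (φ v) (φ x) = φ (rc v x) := fun v x => by
    have : rc v x = x + (∑ j, x j * v j) • v := rfl
    rw [refl_apply, hφB, this, map_add, map_smul]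
  have hinj : Function.Injective φ := by
    rw [injective_iff_map_eq_zero]
    exact fun x hx => hreg x fun j => by
      have := hφB x (Pi.single j 1)
      simp [hx] at this
      simpa [Matrix.one_apply, Pi.single_apply] using this.symm
  have hy' : C.f y = φ ![1, 0, 0, 0, 0] := by simp [hφ, Fintype.linearCombination_apply, hb, Fin.sum_univ_five]
  have hz' : C.f z = φ ![0, 1, 0, 0, 0] := by simp [hφ, Fintype.linearCombination_apply, hb, Fin.sum_univ_five]
  have hr' : r = φ ![0, 0, 1, 1, 1] := by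
    simp [hφ, Fintype.linearCombination_apply, hb, Fin.sum_univ_five]
    funext i
    simp only [Pi.add_apply, Pi.sub_apply]
    have h3 : (3 : ZMod 3) = 0 := by decide
    linear_combination (-(f i)) * h3
  choose m hm hml using fun i => C.exists_mem (v := φ (cycVec i)) (by rw [hφB]; exact cycVec_norm i)
  have hstep : ∀ i x, C.refl (C.f (m i)) (φ x) = φ (rc (cycVec i) x) := fun i x => by
    rcases hml i with q | q <;> rw [q]
    · exact hφv _ _
    · rw [refl_neg]; exact hφv _ _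
  have hg := C.moves_mul (C.moves_self (hm 0)) (C.moves_mul (C.moves_self (hm 1))
    (C.moves_mul (C.moves_self (hm 2)) (C.moves_self (hm 3))))
  set g := m 0 * (m 1 * (m 2 * m 3)) with hgdef
  set M := C.refl (C.f (m 0)) ∘ₗ C.refl (C.f (m 1)) ∘ₗ C.refl (C.f (m 2)) ∘ₗ C.refl (C.f (m 3)) with hMdef
  have hcyc : ∀ x, M (φ x) = φ (cyc x) := fun x => by
    simp only [hMdef, LinearMap.comp_apply, hstep]; rfl
  have hfix : ∀ {w : G} {x : Fin 5 → ZMod 3}, w ∈ perp D d → C.f w = φ x → cyc x = x → g * w * g⁻¹ = w :=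
    fun hw hwx hx => (C.eq_of hw (C.moves_mem hg.1 hw) (by
      have := hg.2.2 _ hw
      rwa [hwx, hcyc, hx, ← hwx] at this)).symm
  have hgy := hfix hyE hy' cyc_fix.1
  have hgz := hfix hzE hz' cyc_fix.2.1
  have h1 := C.isTr_moves hg hyE hr
  rw [hgy, hr', hcyc, cyc_fix.2.2, ← hr'] at h1
  have hd : g * d * g⁻¹ = d := by rw [hg.1.eq, mul_inv_cancel_right]
  have hdc' : ¬ Commute d (g * c * g⁻¹) := fun hh => hdc ((conj_commute_iff g d c).1 (hd.symm ▸ hh))
  have hy2 : y ∈ common D d (g * c * g⁻¹) :=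
    ⟨hy.1, hgy ▸ conj_image_perp C.cls g c ▸ ⟨y, hy.2, rfl⟩⟩
  have hTT : ∀ e, e ∈ common D d (g * c * g⁻¹) ↔ e ∈ common D d c := by
    rcases C.eq_of_isTr hc hdc (ThreeTr.conj_mem C.cls g hc) hdc' hy hy2 hr h1 with q | q <;> intro e <;> rw [q]
    exact C.common_twin hc
  have h2 := C.isTr_moves hg hzE hs
  rw [hgz] at h2
  have h2' : C.IsTr c z (M s) := ⟨h2.1, h2.2.1, h2.2.2.1, fun e he hez => by
    rw [← hTT]; exact h2.2.2.2 e he hez⟩
  obtain ⟨x, rfl⟩ : ∃ x, φ x = s := ((LinearMap.injective_iff_surjective).1 hinj) s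
  have hx0 : x 0 = 0 := by
    have := hsy
    rw [hy', hφB] at this
    simpa [Fin.sum_univ_five] using this
  have hx1 : x 1 = 0 := by
    have := hs.2.2.1
    rw [hz', hφB] at this
    simpa [Fin.sum_univ_five] using this
  have hxx : ∑ j, x j * x j = 0 := by rw [← hφB]; exact hs.2.1
  have hfx : cyc x = x ∨ cyc x = -x := by
    rcases C.isTr_unique hzE hs h2' with q | q <;> rw [hcyc] at q
    · exact Or.inl (hinj q)
    · exact Or.inr (hinj (q.trans (map_neg φ x).symm))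
  rcases cyc_stable x hx0 hx1 hxx hfx with q | q | q
  · exact absurd (by rw [q, map_zero]) hs.1
  · exact Or.inl (by rw [q, ← hr'])
  · exact Or.inr (by rw [q, map_neg, ← hr'])

/-- Orthogonal members of a trace have the same section. -/
theorem agree {c y z : G} {r : Fin n → ZMod 3} (hc : c ∈ D) (hdc : ¬ Commute d c) (hy : y ∈ common D d c)
    (hz : z ∈ common D d c) (hzy : C.B (C.f z) (C.f y) = 0) (hr : C.IsTr c y r) : C.IsTr c z r := by
  obtain ⟨s, hs⟩ := C.exists_isTr hc hdc hz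
  have hyE : y ∈ perp D d := hy.1
  have hzE : z ∈ perp D d := hz.1
  have hyz : C.B (C.f y) (C.f z) = 0 := by rw [C.bsymm]; exact hzy
  have hrz : C.B (C.f z) r = 0 := (hr.2.2.2 z hzE hzy).1 hz
  have hsy : C.B (C.f y) s = 0 := (hs.2.2.2 y hyE hyz).1 hy
  have hG : HasGram C.B ![C.f y, C.f z] ![![1, 0], ![0, 1]] := by
    intro i j; fin_cases i <;> fin_cases j <;> simp [C.norm hyE, C.norm hzE, hyz, hzy]
  have hrv : ∀ i, C.B (![C.f y, C.f z] i) r = 0 := by intro i; fin_cases i <;> simp [hr.2.2.1, hrz]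
  have hsv : ∀ i, C.B (![C.f y, C.f z] i) s = 0 := by intro i; fin_cases i <;> simp [hs.2.2.1, hsy]
  suffices h : s = r ∨ s = -r by
    rcases h with rfl | rfl
    · exact hs
    · exact ⟨hr.1, hr.2.1, hrz, fun e he hez => (hs.2.2.2 e he hez).trans (by simp)⟩
  by_cases hw : ∃ w, (∀ i, C.B (![C.f y, C.f z] i) w = 0) ∧ C.B w w = 1 ∧ C.B r w = 0
  · refine trace_compl C.symm C.nd hG regular_yz hrv hsv hr.1 hr.2.1 hs.1 hs.2.1 hw fun w hwv hw1 hwr => ?_
    obtain ⟨e, he, hfe⟩ := C.exists_mem hw1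
    have e1 : C.B (C.f y) w = 0 := by simpa using hwv 0
    have e2 : C.B (C.f z) w = 0 := by simpa using hwv 1
    rw [C.bsymm] at e1 e2 hwr ⊢
    have a1 : C.B (C.f e) (C.f y) = 0 := by rcases hfe with q | q <;> simp [q, e1]
    have a2 : C.B (C.f e) (C.f z) = 0 := by rcases hfe with q | q <;> simp [q, e2]
    have a3 : C.B (C.f e) r = 0 := by rcases hfe with q | q <;> simp [q, hwr]
    have := (hs.2.2.2 e he a2).1 ((hr.2.2.2 e he a1).2 a3)
    rcases hfe with q | q <;> simpa [q] using this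
  · have hn6 : n = 5 := by
      by_contra hne
      refine hw (one_orth_compl C.symm C.nd hG regular_yz ?_ hrv hr.2.1)
      have := C.hn; rw [C.dim]; omega
    obtain ⟨f, hfv, hrf, hff⟩ := partner_in_compl C.symm C.nd hG regular_yz hrv hr.1 hr.2.1
    have hyf : C.B (C.f y) f = 0 := by simpa using hfv 0
    have hzf : C.B (C.f z) f = 0 := by simpa using hfv 1
    have hG' : HasGram C.B ![C.f y, C.f z, r, f]
        ![![1, 0, 0, 0], ![0, 1, 0, 0], ![0, 0, 0, 1], ![0, 0, 1, 0]] := by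
      intro i j
      fin_cases i <;> fin_cases j <;>
        simp [C.norm hyE, C.norm hzE, hyz, hzy, hr.2.1, hr.2.2.1, hrz, hrf, hff, hyf, hzf, C.bsymm r (C.f y),
          C.bsymm r (C.f z), C.bsymm f (C.f y), C.bsymm f (C.f z), C.bsymm f r]
    obtain ⟨h, hhv, hh0⟩ := aniso_in_compl C.symm C.nd hG' regular_yzrf (by rw [C.dim]; omega)
    have g0 : C.B (C.f y) h = 0 := by simpa using hhv 0
    have g1 : C.B (C.f z) h = 0 := by simpa using hhv 1
    have g2 : C.B r h = 0 := by simpa using hhv 2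
    have g3 : C.B f h = 0 := by simpa using hhv 3
    refine C.agree_frame hn6 hc hdc hy hz hzy hr hs hrz hsy hrf hff hyf hzf g0 g1 g2 g3
      ((sign_cases hh0).resolve_left fun h1 => hw ⟨h, fun i => ?_, h1, g2⟩)
    fin_cases i <;> simp [g0, g1]

/-- One singular vector gives the sections at all members of the trace. -/
theorem exists_root {c : G} (hc : c ∈ D) (hdc : ¬ Commute d c) :
    ∃ r, r ≠ 0 ∧ C.B r r = 0 ∧ ∀ u ∈ common D d c, C.IsTr c u r := by
  obtain ⟨y, hy⟩ := exists_common C.setting.rich C.hd hc hdc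
  obtain ⟨r, hr⟩ := C.exists_isTr hc hdc hy
  have hyE : y ∈ perp D d := hy.1
  have horth : ∀ u ∈ common D d c, C.B (C.f u) r = 0 := by
    intro u hu
    obtain ⟨w, hwv, hw, hwr⟩ := one_orth_compl C.symm C.nd (C.gram_one hyE) regular_one
      (by have := C.hn; rw [C.dim]; omega) (a := r) (fun i => by fin_cases i; simpa using hr.2.2.1) hr.2.1
    have hwy : C.B (C.f y) w = 0 := by simpa using hwv 0
    have main : ∀ v, C.B v v = 1 → C.B (C.f y) v = 0 → C.B r v = 0 →
        C.B (C.f u) v = 0 → C.B (C.f u) r = 0 := by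
      intro v hv hvy hvr huv
      obtain ⟨e, he, hfe⟩ := C.exists_mem hv
      rw [C.bsymm] at hvy hvr
      have a1 : C.B (C.f e) (C.f y) = 0 := by rcases hfe with q | q <;> simp [q, hvy]
      have a3 : C.B (C.f e) r = 0 := by rcases hfe with q | q <;> simp [q, hvr]
      have hT := (hr.2.2.2 e he a1).2 a3
      have a4 : C.B (C.f u) (C.f e) = 0 := by rcases hfe with q | q <;> simp [q, huv]
      exact ((C.agree hc hdc hy hT a1 hr).2.2.2 u hu.1 a4).1 hu
    have key : ∀ j k : ZMod 3, k = 0 ∨ j = 0 ∨ j + k = 0 ∨ j + 2 * k = 0 := by decide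
    rcases key (C.B (C.f u) w) (C.B (C.f u) r) with h | h | h | h
    · exact h
    · exact main w hw hwy hwr h
    · exact main (w + r) (by simp [hw, hr.2.1, hwr, C.bsymm w r]) (by simp [hwy, hr.2.2.1])
        (by simp [hwr, hr.2.1]) (by simpa using h)
    · exact main (w + (2 : ZMod 3) • r) (by simp [hw, hr.2.1, hwr, C.bsymm w r]) (by simp [hwy, hr.2.2.1])
        (by simp [hwr, hr.2.1]) (by simpa using h)
  refine ⟨r, hr.1, hr.2.1, fun u hu => ?_⟩
  obtain ⟨s, hs⟩ := C.exists_isTr hc hdc hu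
  rcases C.trace_perp (a := s) (a' := r) hu.1 hs.2.2.1 (horth u hu) hs.1 hs.2.1 hr.1 hr.2.1
    (fun e he heu hes => horth e ((hs.2.2.2 e he heu).2 hes)) with rfl | rfl
  · exact hs
  · exact ⟨hr.1, hr.2.1, horth u hu, fun e he heu => (hs.2.2.2 e he heu).trans (by simp)⟩

end Ctx

end Cfsg.Lib.Fischer.Refl
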