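import Cfsg.Agent.Fischer.Base
import Cfsg.Agent.Fischer.Refl.Space

/-!
A perp set labelled by norm one points: conjugation by a member is the reflection.
-/

set_option autoImplicit false
set_option linter.unusedSectionVars false

namespace Cfsg.Lib.Fischer.Refl

open Cfsg Subgroup Cfsg.Lib.ThreeTr
open LinearMap (BilinForm)
open Module (finrank)

universe u

variable {G : Type u} [Group G] [Finite G]

/-- A member of a class whose perp set is labelled by the norm one points of a form over three elements. -/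
structure Ctx (D : Set G) (d : G) (n : ℕ) where
  setting : Setting D
  hd : d ∈ D
  hn : 5 ≤ n
  B : BilinForm (ZMod 3) (Fin n → ZMod 3)
  symm : B.IsSymm
  nd : B.Nondegenerate
  f : G → Fin n → ZMod 3
  coords : Coords (perp D d) (fun v => B v v = 1) (fun v w => B v w) f

namespace Ctx

variable {D : Set G} {d : G} {n : ℕ} (C : Ctx D d n)
include C

theorem cls : IsThreeTranspositionClass D := C.setting.rich.cls

theorem tr : IsThreeTranspositionSet D := C.setting.rich.cls.1

theorem dim : finrank (ZMod 3) (Fin n → ZMod 3) = n := by simp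

theorem bsymm (v w : Fin n → ZMod 3) : C.B v w = C.B w v := C.symm.eq v w

theorem norm {x : G} (hx : x ∈ perp D d) : C.B (C.f x) (C.f x) = 1 := C.coords.mem x hx

theorem exists_mem {v : Fin n → ZMod 3} (hv : C.B v v = 1) :
    ∃ x ∈ perp D d, C.f x = v ∨ C.f x = -v := by
  obtain ⟨x, hx, a, ha, rfl⟩ := C.coords.surj v hv
  refine ⟨x, hx, ?_⟩
  rcases pm_of_smul ha (C.f x) with h | h <;> rw [h] <;> simp

theorem eq_of {x y : G} (hx : x ∈ perp D d) (hy : y ∈ perp D d) (h : C.f y = C.f x ∨ C.f y = -C.f x) : x = y := by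
  rcases h with h | h
  · exact C.coords.inj x hx y hy 1 (by rw [h, one_smul])
  · exact C.coords.inj x hx y hy (-1) (by rw [h, neg_one_smul])

theorem comm_iff {x y : G} (hx : x ∈ perp D d) (hy : y ∈ perp D d) :
    Commute x y ↔ x = y ∨ C.B (C.f x) (C.f y) = 0 := by
  by_cases h : x = y
  · exact ⟨fun _ => Or.inl h, fun _ => h ▸ Commute.refl x⟩
  · simp [h, C.coords.comm x hx y hy h]

theorem ne_of_orth {x y : G} (hx : x ∈ perp D d) (h : C.B (C.f x) (C.f y) = 0) : x ≠ y := fun e => by
  subst e
  rw [C.norm hx] at h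
  exact one_ne_zero h

theorem commute_of_orth {x y : G} (hx : x ∈ perp D d) (hy : y ∈ perp D d) (h : C.B (C.f x) (C.f y) = 0) :
    Commute x y := (C.comm_iff hx hy).2 (Or.inr h)

theorem conj_perp {x y : G} (hx : x ∈ perp D d) (hy : y ∈ perp D d) : x * y * x ∈ perp D d := by
  have h : x * y * x⁻¹ ∈ perp D (x * d * x⁻¹) := by rw [← conj_image_perp C.cls x d]; exact ⟨y, hy, rfl⟩
  rwa [inv_eq C.tr hx.1, ← hx.2.2.eq, mul_assoc, sq_eq_one C.tr hx.1, mul_one] at h

theorem conj_perp' {x : G} (hx : x ∈ D) : d * x * d ∈ D := conj_invol_mem C.cls C.hd hx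

omit C in
theorem conj_self {x y : G} (hx : x * x = 1) (h : Commute x y) : x * y * x = y := by
  rw [h.eq, mul_assoc, hx, mul_one]

theorem gram_one {x : G} (hx : x ∈ perp D d) : HasGram C.B ![C.f x] ![![1]] := by
  intro i j; fin_cases i; fin_cases j; simpa using C.norm hx

omit C in
theorem regular_one : Regular (![![1]] : Matrix (Fin 1) (Fin 1) (ZMod 3)) := by unfold Regular; decide

/-- A singular vector orthogonal to a member is known from the members orthogonal to both. -/
theorem trace_perp {x : G} (hx : x ∈ perp D d) {a a' : Fin n → ZMod 3} (hxa : C.B (C.f x) a = 0)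
    (hxa' : C.B (C.f x) a' = 0) (ha : a ≠ 0) (haa : C.B a a = 0) (ha'0 : a' ≠ 0) (ha' : C.B a' a' = 0)
    (h : ∀ e ∈ perp D d, C.B (C.f e) (C.f x) = 0 → C.B (C.f e) a = 0 → C.B (C.f e) a' = 0) :
    a' = a ∨ a' = -a := by
  refine trace_compl C.symm C.nd (C.gram_one hx) regular_one (a := a) (a' := a') (fun i => ?_) (fun i => ?_)
    ha haa ha'0 ha' (one_orth_compl C.symm C.nd (C.gram_one hx) regular_one ?_ (fun i => ?_) haa) fun w hwv hw hwa => ?_
  · fin_cases i; simpa using hxa
  · fin_cases i; simpa using hxa'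
  · have := C.hn; rw [C.dim]; omega
  · fin_cases i; simpa using hxa
  · obtain ⟨e, he, hfe⟩ := C.exists_mem hw
    have h0 : C.B (C.f x) w = 0 := by simpa using hwv 0
    rw [C.bsymm] at h0 hwa ⊢
    rcases hfe with hfe | hfe <;> simpa [hfe] using h e he (by simp [hfe, h0]) (by simp [hfe, hwa])

theorem conj_label_one {x y : G} (hx : x ∈ perp D d) (hy : y ∈ perp D d) (h : C.B (C.f x) (C.f y) = 1 ∨
    C.B (C.f x) (C.f y) = -1) (hne : x ≠ y) :
    C.f (x * y * x) = C.B (C.f x) (C.f y) • C.f x + C.f y ∨
      C.f (x * y * x) = -(C.B (C.f x) (C.f y) • C.f x + C.f y) := by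
  set k := C.B (C.f x) (C.f y) with hk
  have hk0 : k ≠ 0 := by rcases h with h | h <;> rw [h] <;> decide
  have hncomm : ¬ Commute x y := fun hc => (C.comm_iff hx hy).1 hc |>.elim hne hk0
  set z := x * y * x with hz
  have hzE : z ∈ perp D d := C.conj_perp hx hy
  have hzc : ¬ Commute x z := fun hc => hncomm (by
    have := (conj_commute_iff x x z).2 hc
    rwa [mul_inv_cancel_right, hz, inv_eq C.tr hx.1, ← mul_assoc, ← mul_assoc, sq_eq_one C.tr hx.1, one_mul,
      mul_assoc, sq_eq_one C.tr hx.1, mul_one] at this)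
  have hxz : C.B (C.f x) (C.f z) ≠ 0 := fun e => hzc (C.commute_of_orth hx hzE e)
  set l := C.B (C.f x) (C.f z) with hl
  set a := k • C.f y - C.f x with ha
  set a' := l • C.f z - C.f x with ha'
  have hkk : k * k = 1 := by rcases h with h | h <;> rw [h] <;> decide
  have hll : l * l = 1 := by rcases sign_cases hxz with h | h <;> rw [h] <;> decide
  have hsing : ∀ {u : G} (m : ZMod 3), u ∈ perp D d → C.B (C.f x) (C.f u) = m → m * m = 1 →
      C.B (m • C.f u - C.f x) (m • C.f u - C.f x) = 0 ∧ C.B (C.f x) (m • C.f u - C.f x) = 0 := by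
    intro u m hu hum hmm
    refine ⟨?_, ?_⟩
    · simp only [map_sub, map_smul, LinearMap.sub_apply, LinearMap.smul_apply, smul_eq_mul, hum, C.norm hu, C.norm hx,
        C.bsymm (C.f u) (C.f x)]
      linear_combination (-1 : ZMod 3) * hmm
    · simp only [map_sub, map_smul, smul_eq_mul, hum, C.norm hx, hmm, sub_self]
  have ha0 : a ≠ 0 := fun e => hne <| C.eq_of hx hy (by
    have e' : k • C.f y = C.f x := sub_eq_zero.1 e
    rcases sign_cases hk0 with q | q <;> rw [q] at e'
    · exact Or.inl (by simpa using e')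
    · exact Or.inr (by rw [← e']; simp))
  have hzx : z ≠ x := fun e => hzc (e ▸ Commute.refl x)
  have ha'0 : a' ≠ 0 := fun e => hzx <| (C.eq_of hx hzE (by
    have e' : l • C.f z = C.f x := sub_eq_zero.1 e
    rcases sign_cases hxz with q | q <;> rw [q] at e'
    · exact Or.inl (by simpa using e')
    · exact Or.inr (by rw [← e']; simp))).symm
  obtain ⟨haa, hxa⟩ := hsing k hy hk.symm hkk
  obtain ⟨ha'a', hxa'⟩ := hsing l hzE hl.symm hll
  rcases C.trace_perp hx hxa hxa' ha0 haa ha'0 ha'a' (fun e he hex hea => by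
    have hce := C.commute_of_orth hx he (by rw [C.bsymm]; exact hex)
    have hey : C.B (C.f e) (C.f y) = 0 := by
      simp only [map_sub, map_smul, smul_eq_mul, hex, sub_zero] at hea
      exact (mul_eq_zero.1 hea).resolve_left hk0
    have hcy : Commute e z := by
      have := (conj_commute_iff x e y).2 (C.commute_of_orth he hy hey)
      rwa [inv_eq C.tr hx.1, conj_self (sq_eq_one C.tr hx.1) hce] at this
    have hez : C.B (C.f e) (C.f z) = 0 := ((C.comm_iff he hzE).1 hcy).resolve_left fun q =>
      hzc (q ▸ hce)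
    simp [hex, hez]) with q | q
  · exfalso
    have hlz : l • C.f z = k • C.f y := sub_left_injective q
    have : z = y := (C.eq_of hy hzE (by
      rcases sign_cases hxz with q1 | q1 <;> rcases sign_cases hk0 with q2 | q2 <;> rw [q1, q2] at hlz <;>
        simp at hlz
      · exact Or.inl hlz
      · exact Or.inr hlz
      · exact Or.inr (by rw [← hlz]; simp)
      · exact Or.inl hlz)).symm
    refine hncomm ?_
    show x * y = y * x
    calc x * y = x * y * (x * x) := by rw [sq_eq_one C.tr hx.1, mul_one]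
      _ = y * x := by rw [← mul_assoc, ← hz, this]
  · have hlz : l • C.f z = -(k • C.f y + C.f x) := by
      funext i
      have := congrFun q i
      simp only [Pi.sub_apply, Pi.smul_apply, Pi.neg_apply, Pi.add_apply, smul_eq_mul] at this ⊢
      have h3 : (3 : ZMod 3) = 0 := by decide
      linear_combination this + C.f x i * h3
    have hkey : C.f z = -((l * k) • (k • C.f x + C.f y)) := by
      have := congrArg (fun w => l • w) hlz
      rw [smul_smul, hll, one_smul] at this
      rw [this, smul_neg, smul_add, smul_add, smul_smul, smul_smul, mul_assoc, hkk, mul_one, add_comm]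
    rcases pm_of_smul (c := l * k) (mul_ne_zero hxz hk0) (k • C.f x + C.f y) with q | q <;> rw [q] at hkey
    · exact Or.inr hkey
    · rw [neg_neg] at hkey; exact Or.inl hkey

/-- Conjugation by a member reflects the labels, up to sign. -/
theorem conj_label {x y : G} (hx : x ∈ perp D d) (hy : y ∈ perp D d) :
    C.f (x * y * x) = C.f y + C.B (C.f y) (C.f x) • C.f x ∨
      C.f (x * y * x) = -(C.f y + C.B (C.f y) (C.f x) • C.f x) := by
  rw [C.bsymm (C.f y), add_comm]
  by_cases h : x = y
  · subst h
    rw [C.norm hx, one_smul, sq_eq_one C.tr hx.1, one_mul]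
    right
    funext i
    have : ∀ q : ZMod 3, q = -(q + q) := by decide
    exact this _
  by_cases hk : C.B (C.f x) (C.f y) = 0
  · rw [hk, zero_smul, zero_add, conj_self (sq_eq_one C.tr hx.1) (C.commute_of_orth hx hy hk)]
    exact Or.inl rfl
  · exact C.conj_label_one hx hy (sign_cases hk) h

end Ctx

end Cfsg.Lib.Fischer.Refl
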