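import Cfsg.Agent.Fischer.Refl.Section

/-!
The members outside: two over each singular point, commuting only over points that are not orthogonal.
-/

set_option autoImplicit false
set_option linter.unusedSectionVars false

namespace Cfsg.Lib.Fischer.Refl

open Cfsg Subgroup Cfsg.Lib.ThreeTr
open LinearMap (BilinForm)
open Module (finrank)

universe u

variable {G : Type u} [Group G] [Finite G]

/-- The members not commuting with `d`. -/
def Out (D : Set G) (d c : G) : Prop := c ∈ D ∧ ¬ Commute d c

namespace Ctx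

variable {D : Set G} {d : G} {n : ℕ} (C : Ctx D d n)

open scoped Classical in
/-- The singular vector of a member outside. -/
noncomputable def root (c : G) : Fin n → ZMod 3 :=
  if h : Out D d c then (C.exists_section h.1 h.2).choose else 0

include C

theorem root_spec {c : G} (h : Out D d c) : C.root c ≠ 0 ∧ C.B (C.root c) (C.root c) = 0 ∧
    ∀ e ∈ perp D d, e ∈ common D d c ↔ C.B (C.f e) (C.root c) = 0 := by
  simp only [root, dif_pos h]
  exact (C.exists_section h.1 h.2).choose_spec

theorem commute_iff_root {c e : G} (h : Out D d c) (he : e ∈ perp D d) :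
    Commute c e ↔ C.B (C.f e) (C.root c) = 0 := by
  rw [← (C.root_spec h).2.2 e he]
  refine ⟨fun hc => ⟨he, he.1, fun q => h.2 (q ▸ he.2.2), hc⟩, fun ht => ht.2.2.2⟩

theorem pm_of_orth {a a' : Fin n → ZMod 3} (ha : a ≠ 0) (haa : C.B a a = 0) (ha'0 : a' ≠ 0)
    (ha' : C.B a' a' = 0) (h : ∀ e ∈ perp D d, C.B (C.f e) a = 0 → C.B (C.f e) a' = 0) :
    a' = a ∨ a' = -a := by
  obtain ⟨w, hw, haw⟩ := exists_one_orth C.symm C.nd (by have := C.hn; rw [C.dim]; omega) haa
  refine trace_lemma C.symm C.nd ha haa ha'0 ha' ⟨w, hw, haw⟩ fun v hv hva => ?_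
  obtain ⟨e, he, hfe⟩ := C.exists_mem hv
  rw [C.bsymm] at hva ⊢
  have := h e he (by rcases hfe with q | q <;> simp [q, hva])
  rcases hfe with q | q <;> simpa [q] using this

theorem out_twin {c : G} (h : Out D d c) : Out D d (d * c * d) := by
  refine ⟨C.conj_perp' h.1, fun hc => h.2 ?_⟩
  have := (conj_commute_iff d d (d * c * d)).2 hc
  rwa [mul_inv_cancel_right, inv_eq C.tr C.hd, ← mul_assoc, ← mul_assoc, sq_eq_one C.tr C.hd, one_mul,
    mul_assoc, sq_eq_one C.tr C.hd, mul_one] at this

theorem root_twin {c : G} (h : Out D d c) : C.root (d * c * d) = C.root c ∨ C.root (d * c * d) = -C.root c := by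
  obtain ⟨a0, aa, ha⟩ := C.root_spec h
  obtain ⟨b0, bb, hb⟩ := C.root_spec (C.out_twin h)
  exact C.pm_of_orth a0 aa b0 bb fun e he hea => (hb e he).1 ((C.common_twin h.1).2 ((ha e he).2 hea))

theorem out_moves {g : G} (hg : Commute g d) {c : G} (h : Out D d c) : Out D d (g * c * g⁻¹) := by
  have hd : g * d * g⁻¹ = d := by rw [hg.eq, mul_inv_cancel_right]
  exact ⟨ThreeTr.conj_mem C.cls g h.1, fun hc => h.2 ((conj_commute_iff g d c).1 (hd.symm ▸ hc))⟩

theorem root_moves {g : G} {M : (Fin n → ZMod 3) →ₗ[ZMod 3] (Fin n → ZMod 3)} (hg : C.Moves g M) {c : G}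
    (h : Out D d c) : C.root (g * c * g⁻¹) = M (C.root c) ∨ C.root (g * c * g⁻¹) = -M (C.root c) := by
  obtain ⟨hgd, hM, hlab⟩ := hg
  obtain ⟨a0, aa, ha⟩ := C.root_spec h
  obtain ⟨b0, bb, -⟩ := C.root_spec (C.out_moves hgd h)
  refine C.pm_of_orth (fun e => a0 (C.nd.1 _ fun w => by rw [← hM, e, map_zero, LinearMap.zero_apply]))
    (by rw [hM, aa]) b0 bb fun e he hea => ?_
  have he' : g⁻¹ * e * g ∈ perp D d := by simpa using C.moves_mem hgd.inv_left he
  have heq : g * (g⁻¹ * e * g) * g⁻¹ = e := by group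
  have h0 : C.B (C.f (g⁻¹ * e * g)) (C.root c) = 0 := by
    rcases hlab _ he' with q | q <;> rw [heq] at q <;> simpa [q, hM] using hea
  have hc : Commute c (g⁻¹ * e * g) := (C.commute_iff_root h he').2 h0
  refine (C.commute_iff_root (C.out_moves hgd h) he).1 ?_
  rw [← heq]
  exact (conj_commute_iff g _ _).2 hc

/-- The reflection of a singular vector onto one not orthogonal to it. -/
theorem exists_refl {r s : Fin n → ZMod 3} (hr : C.B r r = 0) (hs : C.B s s = 0) (hk : C.B r s ≠ 0) :
    ∃ v ∈ perp D d, C.B (C.f v) r ≠ 0 ∧ (C.refl (C.f v) r = s ∨ C.refl (C.f v) r = -s) ∧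
      (C.f v = C.B r s • s - r ∨ C.f v = -(C.B r s • s - r)) := by
  set k := C.B r s with hkdef
  have hkk : k * k = 1 := by rcases sign_cases hk with q | q <;> rw [q] <;> decide
  have hn1 : C.B (k • s - r) (k • s - r) = 1 := by
    simp only [map_sub, map_smul, LinearMap.sub_apply, LinearMap.smul_apply, smul_eq_mul, hr, hs, C.bsymm s r,
      ← hkdef]
    have h3 : (3 : ZMod 3) = 0 := by decide
    linear_combination (-2 : ZMod 3) * hkk - h3
  have hB : C.B r (k • s - r) = 1 := by simp [hr, ← hkdef, hkk]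
  obtain ⟨v, hv, hfv⟩ := C.exists_mem hn1
  have hrefl : C.refl (C.f v) r = k • s := by
    rcases hfv with q | q <;> rw [q] <;> (try rw [refl_neg]) <;> rw [refl_apply, hB, one_smul] <;> abel
  refine ⟨v, hv, ?_, ?_, hfv⟩
  · rw [C.bsymm]
    rcases hfv with q | q <;> rw [q]
    · rw [hB]; decide
    · rw [map_neg, hB]; decide
  · rcases pm_of_smul hk s with q | q <;> rw [hrefl, q]
    exacts [Or.inl rfl, Or.inr rfl]

theorem exists_out : ∃ c, Out D d c := by
  obtain ⟨x, hx⟩ := C.setting.rich.exists_perp C.hd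
  obtain ⟨z, hz, -, hdz⟩ := C.setting.rich.exists_sep C.hd hx
  exact ⟨z, hz, hdz⟩

/-- Every singular point carries a member. -/
theorem root_surj {s : Fin n → ZMod 3} (hs0 : s ≠ 0) (hss : C.B s s = 0) :
    ∃ c, Out D d c ∧ (C.root c = s ∨ C.root c = -s) := by
  have step : ∀ {c : G}, Out D d c → ∀ {t : Fin n → ZMod 3}, C.B t t = 0 → C.B (C.root c) t ≠ 0 →
      ∃ c', Out D d c' ∧ (C.root c' = t ∨ C.root c' = -t) := by
    intro c hc t htt hk
    obtain ⟨v, hv, -, hmv, -⟩ := C.exists_refl (C.root_spec hc).2.1 htt hk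
    refine ⟨v * c * v⁻¹, C.out_moves hv.2.2.symm hc, ?_⟩
    rcases C.root_moves (C.moves_self hv) hc with q | q <;> rcases hmv with p | p <;> simp [q, p]
  obtain ⟨c, hc⟩ := C.exists_out
  obtain ⟨hr0, hrr, -⟩ := C.root_spec hc
  by_cases hk : C.B (C.root c) s = 0
  swap
  · exact step hc hss hk
  by_cases hd : ∀ a : ZMod 3, a • C.root c ≠ s
  · obtain ⟨g, hg⟩ := exists_eval C.symm C.nd ((LinearIndependent.pair_iff' hr0).2 hd) ![1, 1]
    have g1 : C.B (C.root c) g = 1 := by simpa using hg 0
    have g2 : C.B s g = 1 := by simpa using hg 1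
    set t := g + C.B g g • C.root c with ht
    have htt : C.B t t = 0 := by
      simp only [ht, map_add, map_smul, LinearMap.add_apply, LinearMap.smul_apply, smul_eq_mul, g1, hrr,
        C.bsymm g (C.root c)]
      have h3 : (3 : ZMod 3) = 0 := by decide
      linear_combination C.B g g * h3
    obtain ⟨c', hc', hr'⟩ := step hc htt (by rw [ht]; simp [g1, hrr])
    refine step hc' hss ?_
    rcases hr' with q | q <;> rw [q] <;> simp [ht, C.bsymm g s, g2, hk]
  · push Not at hd
    obtain ⟨a, rfl⟩ := hd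
    refine ⟨c, hc, ?_⟩
    rcases pm_of_smul (c := a) (fun q => hs0 (by simp [q])) (C.root c) with q | q <;> rw [q] <;> simp

/-- Members over one point. -/
theorem eq_or_twin {c c' : G} (hc : Out D d c) (hc' : Out D d c')
    (h : C.root c' = C.root c ∨ C.root c' = -C.root c) : c' = c ∨ c' = d * c * d := by
  obtain ⟨y, hy⟩ := exists_common C.setting.rich C.hd hc.1 hc.2
  obtain ⟨a0, aa, ha⟩ := C.root_spec hc
  obtain ⟨b0, bb, hb⟩ := C.root_spec hc'
  have key : ∀ e ∈ perp D d, e ∈ common D d c' ↔ C.B (C.f e) (C.root c) = 0 := fun e he => by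
    rw [hb e he]; rcases h with q | q <;> simp [q]
  have hyr := (ha y hy.1).1 hy
  exact C.eq_of_isTr hc.1 hc.2 hc'.1 hc'.2 hy ((key y hy.1).2 hyr)
    (r := C.root c) ⟨a0, aa, hyr, fun e he _ => ha e he⟩ ⟨a0, aa, hyr, fun e he _ => key e he⟩

/-- The two members reached from `c` by a member of the perp set not commuting with it. -/
theorem twist {c v : G} (hc : Out D d c) (hv : v ∈ perp D d) (h : C.B (C.f v) (C.root c) ≠ 0) :
    ¬ Commute c (v * c * v⁻¹) ∧ Commute c (d * (v * c * v⁻¹) * d) := by
  have hvc : ¬ Commute c v := fun q => h ((C.commute_iff_root hc hv).1 q)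
  have hb : v * c * v⁻¹ = c * v * c := by rw [inv_eq C.tr hv.1, braid C.tr hv.1 hc.1 fun q => hvc q.symm]
  have hdc : d * c * d = c * d * c := braid C.tr C.hd hc.1 hc.2
  rw [hb]
  refine ⟨fun q => hvc ?_, ?_⟩
  · have := (conj_commute_iff c c (c * v * c)).2 q
    rwa [mul_inv_cancel_right, inv_eq C.tr hc.1, ← mul_assoc, ← mul_assoc, sq_eq_one C.tr hc.1, one_mul,
      mul_assoc, sq_eq_one C.tr hc.1, mul_one] at this
  · refine (conj_commute_iff d _ _).1 ?_
    rw [inv_eq C.tr C.hd, show d * (d * (c * v * c) * d) * d = (d * d) * (c * v * c) * (d * d) by group,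
      sq_eq_one C.tr C.hd, one_mul, mul_one, hdc]
    have := (conj_commute_iff c d v).2 hv.2.2
    rwa [inv_eq C.tr hc.1] at this

/-- Over a point not orthogonal exactly one of the two commutes. -/
theorem commute_xor {c c' : G} (hc : Out D d c) (hc' : Out D d c') (h : C.B (C.root c) (C.root c') ≠ 0) :
    Commute c (d * c' * d) ↔ ¬ Commute c c' := by
  obtain ⟨v, hv, hvr, hmv, -⟩ := C.exists_refl (C.root_spec hc).2.1 (C.root_spec hc').2.1 h
  obtain ⟨t1, t2⟩ := C.twist hc hv hvr
  have hroot : C.root (v * c * v⁻¹) = C.root c' ∨ C.root (v * c * v⁻¹) = -C.root c' := by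
    rcases C.root_moves (C.moves_self hv) hc with q | q <;> rcases hmv with p | p <;> simp [q, p]
  rcases C.eq_or_twin hc' (C.out_moves hv.2.2.symm hc) hroot with q | q
  · rw [q] at t1 t2; exact iff_of_true t2 t1
  · rw [q] at t1 t2
    rw [show d * (d * c' * d) * d = (d * d) * c' * (d * d) by group, sq_eq_one C.tr C.hd, one_mul, mul_one] at t2
    exact iff_of_false t1 fun k => k t2

/-- Members over orthogonal points do not commute. -/
theorem not_commute_orth {c c' : G} (hc : Out D d c) (hc' : Out D d c') (hne : c ≠ c')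
    (h : C.B (C.root c) (C.root c') = 0) : ¬ Commute c c' := by
  classical
  intro hcom
  set F : G → G := fun v => if C.B (C.f v) (C.root c) = 0 then v else d * (v * c * v⁻¹) * d with hF
  have hroot : ∀ v ∈ perp D d, C.root (d * (v * c * v⁻¹) * d) = C.refl (C.f v) (C.root c) ∨
      C.root (d * (v * c * v⁻¹) * d) = -C.refl (C.f v) (C.root c) := fun v hv => by
    rcases C.root_twin (C.out_moves hv.2.2.symm hc) with q | q <;>
      rcases C.root_moves (C.moves_self hv) hc with p | p <;> simp [q, p]
  have hrr := (C.root_spec hc).2.1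
  have hout : ∀ v ∈ perp D d, Out D d (d * (v * c * v⁻¹) * d) := fun v hv =>
    C.out_twin (C.out_moves hv.2.2.symm hc)
  have hmaps : ∀ v ∈ perp D d, F v ∈ perp D c := by
    intro v hv
    by_cases h0 : C.B (C.f v) (C.root c) = 0
    · simp only [hF, if_pos h0]
      exact ((C.root_spec hc).2.2 v hv).2 h0 |>.2
    · simp only [hF, if_neg h0]
      refine ⟨(hout v hv).1, fun q => ?_, (C.twist hc hv h0).2⟩
      have hh := hroot v hv
      rw [q] at hh
      have h1 : C.B (C.root c) (C.refl (C.f v) (C.root c)) = 0 := by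
        rcases hh with e | e
        · rw [← e]; exact hrr
        · rw [← neg_eq_zero, ← map_neg, ← e]; exact hrr
      rw [refl_apply, map_add, map_smul, hrr, zero_add, smul_eq_mul, C.bsymm (C.root c) (C.f v), mul_self_eq_zero]
        at h1
      exact h0 h1
  have hinj : Set.InjOn F (perp D d) := by
    intro v hv w hw e
    by_cases h0 : C.B (C.f v) (C.root c) = 0 <;> by_cases h1 : C.B (C.f w) (C.root c) = 0 <;>
      simp only [hF, if_pos, if_neg, h0, h1, not_false_iff] at e
    · exact e
    · exact absurd (e ▸ hv.2.2) (hout w hw).2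
    · exact absurd (e.symm ▸ hw.2.2) (hout v hv).2
    · have hv' := hroot v hv
      have hw' := hroot w hw
      rw [e] at hv'
      have hval : ∀ u, C.B (C.root c) (C.refl (C.f u) (C.root c)) =
          C.B (C.f u) (C.root c) * C.B (C.f u) (C.root c) := fun u => by
        rw [refl_apply, map_add, map_smul, hrr, zero_add, smul_eq_mul, C.bsymm (C.root c) (C.f u)]
      have hsq : ∀ {x : ZMod 3}, x ≠ 0 → x * x = 1 := fun hx => by
        rcases sign_cases hx with q | q <;> rw [q] <;> decide
      have e' : C.refl (C.f v) (C.root c) = C.refl (C.f w) (C.root c) := by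
        rcases hv' with p | p <;> rcases hw' with q | q <;> rw [p] at q
        · exact q
        · exfalso
          have := congrArg (C.B (C.root c)) q
          rw [map_neg, hval, hval, hsq h0, hsq h1] at this
          exact absurd this (by decide)
        · exfalso
          have := congrArg (C.B (C.root c)) q
          rw [map_neg, hval, hval, hsq h0, hsq h1] at this
          exact absurd this (by decide)
        · exact neg_injective q
      rw [refl_apply, refl_apply, add_right_inj] at e'
      refine C.eq_of hv hw ?_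
      rcases sign_cases (c := C.B (C.root c) (C.f v)) (by rwa [C.bsymm]) with a | a <;>
        rcases sign_cases (c := C.B (C.root c) (C.f w)) (by rwa [C.bsymm]) with b | b <;> rw [a, b] at e' <;>
        simp only [one_smul, neg_one_smul] at e'
      exacts [Or.inl e'.symm, Or.inr (by rw [e', neg_neg]), Or.inr e'.symm, Or.inl (neg_injective e').symm]
  have himg : F '' perp D d = perp D c := by
    refine Set.eq_of_subset_of_ncard_le (by rintro _ ⟨v, hv, rfl⟩; exact hmaps v hv) ?_ (Set.toFinite _)
    rw [hinj.ncard_image, ncard_perp_eq C.cls hc.1 C.hd]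
  obtain ⟨v, hv, hFv⟩ : c' ∈ F '' perp D d := himg ▸ ⟨hc'.1, fun q => hne q.symm, hcom⟩
  by_cases h0 : C.B (C.f v) (C.root c) = 0
  · simp only [hF, if_pos h0] at hFv
    exact hc'.2 (hFv ▸ hv.2.2)
  · simp only [hF, if_neg h0] at hFv
    have hh := hroot v hv
    rw [hFv] at hh
    rcases hh with q | q <;> rw [q] at h <;>
      simp only [map_neg, neg_eq_zero, refl_apply, map_add, map_smul, hrr, zero_add, smul_eq_mul,
        C.bsymm (C.root c) (C.f v), mul_self_eq_zero] at h <;>
      exact h0 h

end Ctx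

end Cfsg.Lib.Fischer.Refl
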