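import Cfsg.Agent.Fischer.Refl.Agree
import Cfsg.Agent.ThreeTransposition.M23Count.SrgTrace

/-!
The trace of a noncommuting pair is a whole hyperplane section, the smallest dimensions by counting.
-/

set_option autoImplicit false
set_option linter.unusedSectionVars false
set_option linter.style.haveILetI false

namespace Cfsg.Lib.Fischer.Refl

open Cfsg Subgroup Cfsg.Lib.ThreeTr
open LinearMap (BilinForm)
open Module (finrank)

universe u

variable {G : Type u} [Group G] [Finite G]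

theorem regular_yrf : Regular (![![1, 0, 0], ![0, 0, 1], ![0, 1, 0]] : Matrix (Fin 3) (Fin 3) (ZMod 3)) := by
  unfold Regular; decide

/-- A point and two hyperbolic pairs. -/
def gramFive : Matrix (Fin 5) (Fin 5) (ZMod 3) :=
  ![![1, 0, 0, 0, 0], ![0, 0, 1, 0, 0], ![0, 1, 0, 0, 0], ![0, 0, 0, 0, 1], ![0, 0, 0, 1, 0]]

/-- The same with a further point of norm minus one. -/
def gramSix : Matrix (Fin 6) (Fin 6) (ZMod 3) :=
  ![![1, 0, 0, 0, 0, 0], ![0, 0, 1, 0, 0, 0], ![0, 1, 0, 0, 0, 0], ![0, 0, 0, 0, 1, 0], ![0, 0, 0, 1, 0, 0],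
    ![0, 0, 0, 0, 0, -1]]

theorem regular_five : Regular gramFive := by unfold Regular gramFive; decide +kernel

theorem regular_six : Regular gramSix := by unfold Regular gramSix; decide +kernel

/-- The value of the form with a given matrix. -/
def qf {k : ℕ} (M : Matrix (Fin k) (Fin k) (ZMod 3)) (x : Fin k → ZMod 3) : ZMod 3 := ∑ i, x i * ∑ j, M i j * x j

/-- The part of a trace in the exceptional configuration, in coordinates. -/
def smallTr {k : ℕ} [NeZero k] (x : Fin k → ZMod 3) : Prop :=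
  x 2 = 0 ∧ (x 0 = 0 ∨ ∀ i, i ≠ 0 → i ≠ 1 → x i = 0)

instance {k : ℕ} [NeZero k] : DecidablePred (smallTr (k := k)) := fun x => by unfold smallTr; infer_instance

theorem count_five : (Finset.univ.filter fun x => qf gramFive x = 1).card = 90 ∧
    (Finset.univ.filter fun x => qf gramFive x = 1 ∧ x 0 = 0).card = 24 ∧
    (Finset.univ.filter fun x => qf gramFive x = 1 ∧ smallTr x).card = 12 := by decide +kernel

theorem count_six : (Finset.univ.filter fun x => qf gramSix x = 1).card = 234 ∧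
    (Finset.univ.filter fun x => qf gramSix x = 1 ∧ x 0 = 0).card = 72 ∧
    (Finset.univ.filter fun x => qf gramSix x = 1 ∧ smallTr x).card = 24 := by decide +kernel

theorem no_square {m N z : ℤ} (hm : ¬ IsSquare m) (h : N ^ 2 = m * z ^ 2) (hN : N ≠ 0) : False := by
  have hz : z ≠ 0 := fun e => hN (by simpa [e] using h)
  refine hm (Rat.isSquare_intCast_iff.1 ⟨(N : ℚ) / z, ?_⟩)
  have h' : (N : ℚ) ^ 2 = m * (z : ℚ) ^ 2 := by exact_mod_cast h
  field_simp
  linarith [h']

theorem not_srg {α : Type*} [Fintype α] [Nonempty α] (adj : α → α → Prop) (hsymm : ∀ i j, adj i j → adj j i)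
    (hirr : ∀ i, ¬ adj i i) (k l μ : ℕ) (hk : ∀ i, {j | adj i j}.ncard = k)
    (hl : ∀ i j, adj i j → {x | adj i x ∧ adj x j}.ncard = l)
    (hμ : ∀ i j, i ≠ j → ¬ adj i j → {x | adj i x ∧ adj x j}.ncard = μ) (hμk : μ < k) (hlμ : μ ≤ l)
    (hd : ¬ IsSquare (((l : ℤ) - μ) ^ 2 + 4 * ((k : ℤ) - μ))) : False := by
  obtain ⟨z, hz⟩ := srg_trace adj hsymm hirr k l μ hk hl hμ hμk
  refine no_square hd hz (ne_of_gt ?_)
  have h1 : (1 : ℤ) ≤ (Fintype.card α : ℤ) := by exact_mod_cast Fintype.card_pos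
  have h2 : (μ : ℤ) ≤ l := by exact_mod_cast hlμ
  have h3 : (μ : ℤ) < k := by exact_mod_cast hμk
  nlinarith

theorem ncard_common_conj {D : Set G} (hD : IsThreeTranspositionClass D) (g a b : G) :
    (common D (g * a * g⁻¹) (g * b * g⁻¹)).ncard = (common D a b).ncard := by
  rw [common, ← conj_image_perp hD, ← conj_image_perp hD, ← Set.image_inter (conj_image_injective g)]
  exact Set.ncard_image_of_injective _ (conj_image_injective g)

/-- The parameters of the commuting graph of a primitive class satisfy the integrality condition. -/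
theorem not_srg_class {D : Set G} (hR : Rich D) {d c y : G} (hd : d ∈ D) (hc : c ∈ D) (hdc : ¬ Commute d c)
    (hy : y ∈ perp D d) {k l μ : ℕ} (hk : (perp D d).ncard = k) (hl : (common D d y).ncard = l)
    (hμ : (common D d c).ncard = μ) (hμk : μ < k) (hlμ : μ ≤ l)
    (hsq : ¬ IsSquare (((l : ℤ) - μ) ^ 2 + 4 * ((k : ℤ) - μ))) : False := by
  classical
  haveI : Fintype D := Fintype.ofFinite D
  haveI : Nonempty D := ⟨⟨d, hd⟩⟩
  have hval : ∀ (s : Set D) (S : Set G), S ⊆ D → (∀ x : D, x ∈ s ↔ (x : G) ∈ S) → s.ncard = S.ncard := by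
    intro s S hS h
    rw [← Set.ncard_image_of_injective s Subtype.val_injective]
    refine congrArg _ (Set.ext fun w => ?_)
    exact ⟨fun ⟨x, hx, e⟩ => e ▸ (h x).1 hx, fun hw => ⟨⟨w, hS hw⟩, (h _).2 hw, rfl⟩⟩
  have hcm : ∀ i j : D, {x : D | (x : G) ∈ perp D i ∧ (j : G) ∈ perp D x}.ncard = (common D i j).ncard := fun i j =>
    hval _ _ (fun _ hx => hx.1.1) fun x =>
      ⟨fun h => ⟨h.1, mem_perp_comm x.2 h.2⟩, fun h => ⟨h.1, mem_perp_comm j.2 h.2⟩⟩
  refine not_srg (α := D) (fun i j => (j : G) ∈ perp D i) (fun i j h => mem_perp_comm i.2 h) (fun i h => h.2.1 rfl)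
    k l μ (fun i => ?_) (fun i j h => ?_) (fun i j hne h => ?_) hμk hlμ hsq
  · exact (hval _ (perp D i) (fun _ hx => hx.1) fun x => Iff.rfl).trans ((ncard_perp_eq hR.cls i.2 hd).trans hk)
  · obtain ⟨g, h1, h2⟩ := exists_conj_edge hR hd hy i.2 h
    rw [hcm, ← hl, ← h1, ← h2, ncard_common_conj hR.cls]
  · have hn : ¬ Commute (i : G) j := fun hh => h ⟨j.2, fun e => hne (Subtype.ext e.symm), hh⟩
    obtain ⟨g, h1, h2⟩ := exists_conj_pair hR hd hc hdc i.2 j.2 hn
    rw [hcm, ← hμ, ← h1, ← h2, ncard_common_conj hR.cls]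

namespace Ctx

variable {D : Set G} {d : G} {n : ℕ} (C : Ctx D d n)
include C

theorem two_mul_members (P : (Fin n → ZMod 3) → Prop) (hP : ∀ v, P (-v) ↔ P v) :
    {v | C.B v v = 1 ∧ P v}.ncard = 2 * {e ∈ perp D d | P (C.f e)}.ncard := by
  set S := {e ∈ perp D d | P (C.f e)} with hS
  have hset : {v | C.B v v = 1 ∧ P v} = C.f '' S ∪ (fun e => -C.f e) '' S := by
    ext v
    refine ⟨fun ⟨hv, hPv⟩ => ?_, ?_⟩
    · obtain ⟨x, hx, h | h⟩ := C.exists_mem hv
      · exact Or.inl ⟨x, ⟨hx, h ▸ hPv⟩, h⟩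
      · exact Or.inr ⟨x, ⟨hx, by rw [h, hP]; exact hPv⟩, by simp [h]⟩
    · rintro (⟨x, hx, rfl⟩ | ⟨x, hx, rfl⟩)
      · exact ⟨C.norm hx.1, hx.2⟩
      · exact ⟨by simp [C.norm hx.1], (hP _).2 hx.2⟩
  have hinj : Set.InjOn C.f S := fun x hx y hy h => C.eq_of hx.1 hy.1 (Or.inl h.symm)
  have hinj' : Set.InjOn (fun e => -C.f e) S := fun x hx y hy h => hinj hx hy (neg_injective h)
  rw [hset, Set.ncard_union_eq ?_ ((Set.toFinite S).image _) ((Set.toFinite S).image _),
    hinj.ncard_image, hinj'.ncard_image, two_mul]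
  rw [Set.disjoint_left]
  rintro _ ⟨x, hx, rfl⟩ ⟨y, hy, e⟩
  have hxy : y = x := C.eq_of hy.1 hx.1 (Or.inr e.symm)
  subst hxy
  have := congrArg (fun v => C.B (C.f y) v) e
  simp [C.norm hy.1] at this
  exact absurd this (by decide)

/-- The members with a property, counted in coordinates. -/
theorem count_coords {v : Fin n → Fin n → ZMod 3} {M : Matrix (Fin n) (Fin n) (ZMod 3)} (hG : HasGram C.B v M)
    (hM : Regular M) (P : (Fin n → ZMod 3) → Prop) (hP : ∀ v, P (-v) ↔ P v) (Q : (Fin n → ZMod 3) → Prop)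
    [DecidablePred Q] (h : ∀ x, qf M x = 1 → (P (∑ i, x i • v i) ↔ Q x)) :
    (Finset.univ.filter fun x => qf M x = 1 ∧ Q x).card = 2 * {e ∈ perp D d | P (C.f e)}.ncard := by
  classical
  set φ : (Fin n → ZMod 3) →ₗ[ZMod 3] (Fin n → ZMod 3) := Fintype.linearCombination (ZMod 3) v with hφ
  have hval : ∀ x, C.B (φ x) (φ x) = qf M x := fun x => by
    simp only [hφ, Fintype.linearCombination_apply, map_sum, map_smul, LinearMap.sum_apply, LinearMap.smul_apply,
      smul_eq_mul, qf, hG _ _, Finset.mul_sum]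
    rw [Finset.sum_comm]
    exact Finset.sum_congr rfl fun i _ => Finset.sum_congr rfl fun j _ => by ring
  have hinj : Function.Injective φ := (gram_independent hG hM).fintypeLinearCombination_injective
  have hsur : Function.Surjective φ := (LinearMap.injective_iff_surjective).1 hinj
  rw [← C.two_mul_members P hP, ← Set.ncard_coe_finset, Finset.coe_filter_univ]
  rw [← Set.ncard_image_of_injective _ hinj]
  congr 1
  ext w
  constructor
  · rintro ⟨x, ⟨hx, hQ⟩, rfl⟩
    exact ⟨(hval x).trans hx, (h x hx).2 hQ⟩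
  · rintro ⟨hw, hPw⟩
    obtain ⟨x, rfl⟩ := hsur w
    rw [hval] at hw
    exact ⟨x, ⟨hw, (h x hw).1 hPw⟩, rfl⟩

theorem count_absurd {c y : G} {r : Fin n → ZMod 3} (hc : c ∈ D) (hdc : ¬ Commute d c) (hy : y ∈ perp D d)
    {v : Fin n → Fin n → ZMod 3} {M : Matrix (Fin n) (Fin n) (ZMod 3)} [NeZero n] (hG : HasGram C.B v M)
    (hM : Regular M) (hv0 : v 0 = C.f y) (hv1 : v 1 = r) (hM0 : M 0 = Pi.single 0 1) (hM1 : M 1 = Pi.single 2 1)
    (h01 : (0 : Fin n) ≠ 1) {k l μ : ℕ} (hk : (Finset.univ.filter fun x => qf M x = 1).card = 2 * k)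
    (hl : (Finset.univ.filter fun x => qf M x = 1 ∧ x 0 = 0).card = 2 * l)
    (hμ : (Finset.univ.filter fun x => qf M x = 1 ∧ smallTr x).card = 2 * μ) (hμk : μ < k) (hlμ : μ ≤ l)
    (hsq : ¬ IsSquare (((l : ℤ) - μ) ^ 2 + 4 * ((k : ℤ) - μ)))
    (hchar : ∀ e ∈ perp D d, e ∈ common D d c ↔ C.B (C.f e) r = 0 ∧
      (C.B (C.f e) (C.f y) = 0 ∨ ∃ j : ZMod 3, C.f e = C.B (C.f e) (C.f y) • C.f y + j • r)) : False := by
  classical
  have hBv : ∀ (i : Fin n) (x : Fin n → ZMod 3), C.B (∑ j, x j • v j) (v i) = ∑ j, x j * M j i := fun i x => by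
    simp [hG _ _]
  have hsymm : ∀ i j, M i j = M j i := fun i j => by rw [← hG i j, ← hG j i, C.bsymm]
  have hx0 : ∀ x : Fin n → ZMod 3, C.B (∑ j, x j • v j) (C.f y) = x 0 := fun x => by
    rw [← hv0, hBv]; simp [hsymm _ 0, hM0, Pi.single_apply]
  have hx2 : ∀ x : Fin n → ZMod 3, C.B (∑ j, x j • v j) r = x 2 := fun x => by
    rw [← hv1, hBv]; simp [hsymm _ 1, hM1, Pi.single_apply]
  have c1 := C.count_coords hG hM (fun _ => True) (fun _ => Iff.rfl) (fun _ => True) fun _ _ => Iff.rfl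
  have c2 := C.count_coords hG hM (fun w => C.B w (C.f y) = 0) (fun w => by simp) (fun x => x 0 = 0)
    fun x _ => by rw [hx0]
  have c3 := C.count_coords hG hM
    (fun w => C.B w r = 0 ∧ (C.B w (C.f y) = 0 ∨ ∃ j : ZMod 3, w = C.B w (C.f y) • C.f y + j • r))
    (fun w => by
      simp only [map_neg, LinearMap.neg_apply, neg_eq_zero, neg_smul]
      refine and_congr_right fun _ => or_congr_right ⟨fun ⟨j, hj⟩ => ⟨-j, ?_⟩, fun ⟨j, hj⟩ => ⟨-j, ?_⟩⟩
      · rw [← neg_inj, hj, neg_add, neg_smul, neg_neg]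
      · rw [neg_smul, ← neg_add, ← hj])
    smallTr fun x _ => by
      rw [hx2, hx0, ← hv0, ← hv1]
      refine and_congr_right fun _ => or_congr_right ?_
      constructor
      · rintro ⟨j, hj⟩ i hi0 hi1
        have := Fintype.linearIndependent_iff.1 (gram_independent hG hM)
          (fun i => x i - ((Pi.single 0 (x 0) : Fin n → ZMod 3) i + (Pi.single 1 j : Fin n → ZMod 3) i))
          (by simp [sub_smul, add_smul, Finset.sum_add_distrib, Pi.single_apply, ite_smul, hj]) i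
        simpa [Pi.single_apply, hi0, hi1] using this
      · intro h
        refine ⟨x 1, ?_⟩
        rw [← Finset.sum_subset (Finset.subset_univ {0, 1}) fun i _ hi => by
          simp only [Finset.mem_insert, Finset.mem_singleton, not_or] at hi
          rw [h i hi.1 hi.2, zero_smul], Finset.sum_pair h01]
  simp only [and_true] at c1
  have hE : {e | e ∈ perp D d} = perp D d := rfl
  rw [hk, hE] at c1
  rw [hl] at c2
  rw [hμ] at c3
  have e2 : {e ∈ perp D d | C.B (C.f e) (C.f y) = 0} = common D d y := Set.ext fun e =>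
    ⟨fun h => ⟨h.1, C.perp_of_orth hy h.1 h.2⟩, fun h => ⟨h.1, C.orth_of_perp hy h.1 h.2⟩⟩
  have e3 : {e ∈ perp D d | C.B (C.f e) r = 0 ∧ (C.B (C.f e) (C.f y) = 0 ∨
      ∃ j : ZMod 3, C.f e = C.B (C.f e) (C.f y) • C.f y + j • r)} = common D d c := Set.ext fun e =>
    ⟨fun h => (hchar e h.1).2 h.2, fun h => ⟨h.1, (hchar e h.1).1 h⟩⟩
  rw [e2] at c2
  rw [e3] at c3
  exact not_srg_class C.setting.rich C.hd hc hdc hy (by omega) (l := l) (μ := μ) (by omega) (by omega) hμk hlμ hsq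

theorem eq_common {c : G} {r : Fin n → ZMod 3} (hc : c ∈ D) (hdc : ¬ Commute d c) (hr0 : r ≠ 0)
    (hrr : C.B r r = 0) (hr : ∀ u ∈ common D d c, C.IsTr c u r) {e : G} (he : e ∈ perp D d) :
    e ∈ common D d c ↔ C.B (C.f e) r = 0 := by
  refine ⟨fun h => (hr e h).2.2.1, fun her => ?_⟩
  by_contra hout
  have via : ∀ {x z : G}, x ∈ perp D d → C.B (C.f x) r = 0 → z ∈ common D d c → C.B (C.f x) (C.f z) = 0 →
      x ∈ common D d c := fun hx hxr hz hxz => ((hr _ hz).2.2.2 _ hx hxz).2 hxr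
  have hext : ∀ {z : G}, z ∈ common D d c → ∀ {w : Fin n → ZMod 3}, C.B w w = 1 → C.B (C.f z) w = 0 →
      C.B r w = 0 → ∃ m ∈ common D d c, C.f m = w ∨ C.f m = -w := by
    intro z hz w hw hzw hrw
    obtain ⟨m, hm, hfm⟩ := C.exists_mem hw
    rw [C.bsymm] at hzw hrw
    exact ⟨m, via hm (by rcases hfm with q | q <;> simp [q, hrw]) hz (by rcases hfm with q | q <;> simp [q, hzw]), hfm⟩
  have modRoot : ∀ {x z : G}, x ∈ perp D d → C.B (C.f x) r = 0 → z ∈ common D d c →
      (∃ i j : ZMod 3, C.f x = i • C.f z + j • r) → x ∈ common D d c := by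
    rintro x z hx hxr hz ⟨i, j, hij⟩
    obtain ⟨w, hwv, hw, hwr⟩ := one_orth_compl C.symm C.nd (C.gram_one hz.1) regular_one
      (by have := C.hn; rw [C.dim]; omega) (a := r) (fun i => by fin_cases i; simpa using (hr z hz).2.2.1) hrr
    have hzw : C.B (C.f z) w = 0 := by simpa using hwv 0
    obtain ⟨m, hm, hfm⟩ := hext hz hw hzw hwr
    refine via hx hxr hm ?_
    rcases hfm with q | q <;> simp [q, hij, hzw, hwr]
  obtain ⟨y, hy⟩ := exists_common C.setting.rich C.hd hc hdc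
  have hyE : y ∈ perp D d := hy.1
  have hyr : C.B (C.f y) r = 0 := (hr y hy).2.2.1
  by_cases hey : C.B (C.f e) (C.f y) = 0
  · exact hout (via he her hy hey)
  have hyne : ¬ Commute y e := fun h => ((C.comm_iff hyE he).1 h).elim (fun q => hout (q ▸ hy))
    (fun q => hey (by rw [C.bsymm]; exact q))
  obtain ⟨hk, ha0, haa, hya⟩ := C.dir_spec hyE he hyne
  set k := C.B (C.f y) (C.f e) with hkdef
  set a := C.dir y e with hadef
  have hkk : k * k = 1 := by rcases sign_cases hk with q | q <;> rw [q] <;> decide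
  have hfe : C.f e = k • C.f y + k • a := by
    rw [hadef, dir, ← hkdef, smul_sub, smul_smul, hkk, one_smul, add_sub_cancel]
  have hra : C.B r a = 0 := by
    rw [hadef, dir]; simp [C.bsymm r, her, hyr]
  have hind : ∀ j : ZMod 3, j • r ≠ a := fun j hj => hout (modRoot he her hy
    ⟨k, k * j, by rw [hfe, ← hj, smul_smul]⟩)
  have now : ∀ w, C.B w w = 1 → C.B (C.f y) w = 0 → C.B r w = 0 → C.B a w = 0 → False := by
    intro w hw hyw hrw haw
    obtain ⟨m, hm, hfm⟩ := hext hy hw hyw hrw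
    refine hout (via he her hm ?_)
    rcases hfm with q | q <;> simp [q, hfe, hyw, haw]
  obtain ⟨f, hfv, hrf, haf, hff⟩ := partner₂_in_compl C.symm C.nd (C.gram_one hyE) regular_one
    (fun i => by fin_cases i; simpa using hyr) (fun i => by fin_cases i; simpa using hya) hr0 hrr hra hind
  have hyf : C.B (C.f y) f = 0 := by simpa using hfv 0
  have hG3 : HasGram C.B ![C.f y, r, f] ![![1, 0, 0], ![0, 0, 1], ![0, 1, 0]] := by
    intro i j
    fin_cases i <;> fin_cases j <;>
      simp [C.norm hyE, hrr, hrf, hff, hyf, hyr, C.bsymm r (C.f y), C.bsymm f (C.f y), C.bsymm f r]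
  obtain ⟨b, hbv, hab, hbb⟩ := partner_in_compl C.symm C.nd hG3 regular_yrf (r := a)
    (fun i => by fin_cases i <;> simp [hya, hra, C.bsymm f a, haf]) ha0 haa
  have hyb : C.B (C.f y) b = 0 := by simpa using hbv 0
  have hrb : C.B r b = 0 := by simpa using hbv 1
  have hfb : C.B f b = 0 := by simpa using hbv 2
  have hG5 : HasGram C.B ![C.f y, r, f, a, b] gramFive := by
    intro i j
    fin_cases i <;> fin_cases j <;>
      simp [gramFive, C.norm hyE, hrr, hrf, hff, hyf, hyr, haa, hya, hra, haf, hab, hbb, hyb, hrb, hfb,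
        C.bsymm r (C.f y), C.bsymm f (C.f y), C.bsymm f r, C.bsymm a (C.f y), C.bsymm a r, C.bsymm f a,
        C.bsymm b (C.f y), C.bsymm b r, C.bsymm b f, C.bsymm b a]
  have hno : ∀ w, (∀ i, C.B (![C.f y, r, f, a, b] i) w = 0) → C.B w w = 1 → False := fun w hv hw =>
    now w hw (by simpa using hv 0) (by simpa using hv 1) (by simpa using hv 3)
  have hspan : ∀ a₀, C.B a₀ a₀ = 0 → C.B (C.f y) a₀ = 0 → C.B r a₀ = 0 → C.B a a₀ = 0 →
      a₀ = C.B f a₀ • r + C.B b a₀ • a := by
    intro a₀ h00 h0y h0r h0a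
    set x := a₀ - (C.B f a₀ • r + C.B b a₀ • a) with hx
    have hxv : ∀ i, C.B (![C.f y, r, f, a, b] i) x = 0 := by
      intro i
      fin_cases i <;>
        simp [hx, hrr, hra, haa, hyr, hya, h0y, h0r, h0a, hrf, haf, hab, hrb, C.bsymm f r, C.bsymm f a,
          C.bsymm a r, C.bsymm b r, C.bsymm b a]
    have hxx : C.B x x = 0 := by
      simp [hx, hrr, hra, haa, h00, h0r, h0a, C.bsymm a r, C.bsymm a₀ r, C.bsymm a₀ a]
    by_contra hne
    have hx0 : x ≠ 0 := fun q => hne (sub_eq_zero.1 q)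
    obtain ⟨f', hf'v, hxf', hf'f'⟩ := partner_in_compl C.symm C.nd hG5 regular_five hxv hx0 hxx
    refine hno (x + (2 : ZMod 3) • f') (fun i => by simp [hxv i, hf'v i]) ?_
    simp [hxx, hxf', hf'f', C.bsymm f' x]
    decide
  by_cases hA : ∃ u₀ ∈ common D d c, ¬ Commute y u₀ ∧ ∀ j : ZMod 3, j • r ≠ C.dir y u₀
  · obtain ⟨u₀, hu₀, hyu, hind₀⟩ := hA
    obtain ⟨hk₀, h00, h0a, hy0⟩ := C.dir_spec hyE hu₀.1 hyu
    set k₀ := C.B (C.f y) (C.f u₀) with hk₀def
    set a₀ := C.dir y u₀ with ha₀def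
    have hkk₀ : k₀ * k₀ = 1 := by rcases sign_cases hk₀ with q | q <;> rw [q] <;> decide
    have hfu : C.f u₀ = k₀ • (C.f y + a₀) := by
      rw [ha₀def, dir, ← hk₀def, add_sub_cancel, smul_smul, hkk₀, one_smul]
    have hu₁E := C.conj_perp hyE hu₀.1
    have hu₁ : y * u₀ * y ∈ common D d c := by
      refine ⟨hu₁E, hu₁E.1, fun q => hu₀.2.2.1 ?_, ?_⟩
      · have hyc : Commute y (y * u₀ * y) := by rw [q]; exact hy.2.2.2.symm
        have h1 : Commute y u₀ := by
          have := (conj_commute_iff y y (y * u₀ * y)).2 hyc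
          rwa [mul_inv_cancel_right, inv_eq C.tr hyE.1, ← mul_assoc, ← mul_assoc, sq_eq_one C.tr hyE.1, one_mul,
            mul_assoc, sq_eq_one C.tr hyE.1, mul_one] at this
        exact absurd h1 hyu
      · exact ((hy.2.2.2.mul_right hu₀.2.2.2).mul_right hy.2.2.2)
    have hfu₁ : ∃ i : ZMod 3, i ≠ 0 ∧ C.f (y * u₀ * y) = i • (C.f y - a₀) := by
      have h3 : (3 : ZMod 3) = 0 := by decide
      rcases C.conj_label hyE hu₀.1 with q | q
      · refine ⟨-k₀, neg_ne_zero.2 hk₀, funext fun i => ?_⟩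
        rw [q, C.bsymm (C.f u₀) (C.f y), ← hk₀def, hfu]
        simp only [Pi.add_apply, Pi.smul_apply, Pi.sub_apply, smul_eq_mul]
        linear_combination (k₀ * C.f y i) * h3
      · refine ⟨k₀, hk₀, funext fun i => ?_⟩
        rw [q, C.bsymm (C.f u₀) (C.f y), ← hk₀def, hfu]
        simp only [Pi.add_apply, Pi.smul_apply, Pi.sub_apply, Pi.neg_apply, smul_eq_mul]
        linear_combination -(k₀ * C.f y i) * h3
    obtain ⟨i₁, hi₁, hfu₁⟩ := hfu₁
    by_cases hz : C.B (C.f e) a₀ = 0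
    · have haa0 : C.B a a₀ = 0 := by
        rw [hadef, dir, ← hkdef]; simp [hz, hy0]
      have hra0 : C.B r a₀ = 0 := by
        rw [ha₀def, dir]; simp [C.bsymm r, (hr u₀ hu₀).2.2.1, hyr]
      have hsp := hspan a₀ h0a hy0 hra0 haa0
      set β := C.B f a₀
      set γ := C.B b a₀
      have hγ : γ ≠ 0 := fun q => hind₀ β (by rw [hsp, q, zero_smul, add_zero])
      have hγγ : γ * γ = 1 := by rcases sign_cases hγ with q | q <;> rw [q] <;> decide
      have hae : a = γ • a₀ + (-(γ * β)) • r := by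
        rw [hsp, smul_add, smul_smul, smul_smul, hγγ, one_smul, neg_smul]; abel
      have hek : C.f e = k • (C.f y + γ • a₀) + (-(k * (γ * β))) • r := by
        rw [hfe, hae, smul_add, smul_add, smul_smul k (-(γ * β)), mul_neg]; abel
      generalize -(k * (γ * β)) = t at hek
      rcases sign_cases hγ with q | q <;> rw [q] at hek
      · refine hout (modRoot he her hu₀ ⟨k * k₀, t, ?_⟩)
        rw [hek, hfu, smul_smul, mul_assoc, hkk₀, mul_one, one_smul]
      · refine hout (modRoot he her hu₁ ⟨k * i₁, t, ?_⟩)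
        have hii : i₁ * i₁ = 1 := by rcases sign_cases hi₁ with q | q <;> rw [q] <;> decide
        rw [hek, hfu₁, smul_smul, mul_assoc, hii, mul_one, neg_one_smul, ← sub_eq_add_neg]
    · have key : ∀ p q : ZMod 3, q ≠ 0 → p = 0 ∨ p + q = 0 ∨ p - q = 0 := by decide
      rcases key (C.B (C.f e) (C.f y)) _ hz with q | q | q
      · exact hey q
      · exact hout (via he her hu₀ (by rw [hfu, map_smul, map_add, q, smul_zero]))
      · exact hout (via he her hu₁ (by rw [hfu₁, map_smul, map_sub, q, smul_zero]))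
  push Not at hA
  have hchar : ∀ x ∈ perp D d, x ∈ common D d c ↔ C.B (C.f x) r = 0 ∧
      (C.B (C.f x) (C.f y) = 0 ∨ ∃ j : ZMod 3, C.f x = C.B (C.f x) (C.f y) • C.f y + j • r) := by
    intro x hx
    refine ⟨fun hxT => ⟨(hr x hxT).2.2.1, ?_⟩, fun ⟨hxr, h⟩ => ?_⟩
    · by_cases hyx : Commute y x
      · rcases (C.comm_iff hyE hx).1 hyx with rfl | q
        · exact Or.inr ⟨0, by simp [C.norm hyE]⟩
        · exact Or.inl (by rw [C.bsymm]; exact q)
      obtain ⟨j, hj⟩ := hA x hxT hyx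
      set l := C.B (C.f y) (C.f x) with hldef
      have hll : l * l = 1 := by
        rcases sign_cases (C.dir_spec hyE hx hyx).1 with q | q <;> rw [hldef, q] <;> decide
      refine Or.inr ⟨l * j, ?_⟩
      rw [C.bsymm (C.f x), ← hldef, ← smul_smul, hj, dir, ← hldef, smul_sub, smul_smul, hll, one_smul]
      abel
    · rcases h with q | ⟨j, hj⟩
      · exact via hx hxr hy q
      · exact modRoot hx hxr hy ⟨_, j, hj⟩
  have hn6 : n ≤ 6 := by
    by_contra hlt
    obtain ⟨w, hwv, hw⟩ := one_in_compl C.symm C.nd hG5 regular_five (by rw [C.dim]; omega)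
    exact hno w hwv hw
  have hn := C.hn
  rcases (show n = 5 ∨ n = 6 by omega) with rfl | rfl
  · exact C.count_absurd hc hdc hyE hG5 regular_five (r := r) rfl rfl (by decide) (by decide) (by decide)
      (k := 45) (l := 12) (μ := 6) count_five.1 count_five.2.1 count_five.2.2 (by omega) (by omega)
      (by decide +kernel) hchar
  · obtain ⟨h, hhv, hh⟩ := aniso_in_compl C.symm C.nd hG5 regular_five (by rw [C.dim])
    have hhh : C.B h h = -1 := (sign_cases hh).resolve_left fun q => hno h hhv q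
    have g0 : C.B (C.f y) h = 0 := by simpa using hhv 0
    have g1 : C.B r h = 0 := by simpa using hhv 1
    have g2 : C.B f h = 0 := by simpa using hhv 2
    have g3 : C.B a h = 0 := by simpa using hhv 3
    have g4 : C.B b h = 0 := by simpa using hhv 4
    have hG6 : HasGram C.B ![C.f y, r, f, a, b, h] gramSix := by
      intro i j
      fin_cases i <;> fin_cases j <;>
        simp [gramSix, C.norm hyE, hrr, hrf, hff, hyf, hyr, haa, hya, hra, haf, hab, hbb, hyb, hrb, hfb, g0, g1,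
          g2, g3, g4, hhh, C.bsymm r (C.f y), C.bsymm f (C.f y), C.bsymm f r, C.bsymm a (C.f y), C.bsymm a r,
          C.bsymm f a, C.bsymm b (C.f y), C.bsymm b r, C.bsymm b f, C.bsymm b a, C.bsymm h (C.f y), C.bsymm h r,
          C.bsymm h f, C.bsymm h a, C.bsymm h b]
    exact C.count_absurd hc hdc hyE hG6 regular_six (r := r) rfl rfl (by decide) (by decide) (by decide)
      (k := 117) (l := 36) (μ := 12) count_six.1 count_six.2.1 count_six.2.2 (by omega) (by omega)
      (by decide +kernel) hchar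

/-- The trace of a pair is the section by one singular vector. -/
theorem exists_section {c : G} (hc : c ∈ D) (hdc : ¬ Commute d c) :
    ∃ r, r ≠ 0 ∧ C.B r r = 0 ∧ ∀ e ∈ perp D d, e ∈ common D d c ↔ C.B (C.f e) r = 0 := by
  obtain ⟨r, h0, h1, h⟩ := C.exists_root hc hdc
  exact ⟨r, h0, h1, fun e he => C.eq_common hc hdc h0 h1 h he⟩

end Ctx

end Cfsg.Lib.Fischer.Refl
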