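import Cfsg.Agent.Fischer.Refl.Fibre

/-!
Signs on the singular vectors of the members outside for which commuting is orthogonality one dimension higher.
-/

set_option autoImplicit false
set_option linter.unusedSectionVars false

namespace Cfsg.Lib.Fischer.Refl

open Cfsg Subgroup Cfsg.Lib.ThreeTr
open LinearMap (BilinForm)
open Module (finrank)

universe u

variable {G : Type u} [Group G] [Finite G]

theorem unit_identity : ∀ x y z : ZMod 3, x ≠ 0 → y ≠ 0 → z ≠ 0 → x * y * z = 1 → x * y = z ∧ x * z = y := by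
  decide

theorem avoid_two : ∀ k p q : ZMod 3, k ≠ 0 → ∃ b : ZMod 3, p + b * k ≠ 0 ∧ q + b * k ≠ 0 := by decide

theorem triangle_values : ∀ a b c : ZMod 3, a ≠ 0 → b ≠ 0 → c ≠ 0 →
    (a * c - b ≠ 0 → a * -1 * (c * -1) * (b * -1) = 1) ∧ (a * c - b = 0 → a * -1 * (c * 1) * (b * -1) = 1) := by
  decide

theorem product_eq : ∀ p q r s t : ZMod 3, p ≠ 0 → q ≠ 0 → r ≠ 0 → s ≠ 0 → t ≠ 0 →
    p * t * r = 1 → t * s * q = 1 → p * q = r * s := by
  intro p q r s t hp hq hr hs ht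
  rcases sign_cases hp with rfl | rfl <;> rcases sign_cases hq with rfl | rfl <;>
    rcases sign_cases hr with rfl | rfl <;> rcases sign_cases hs with rfl | rfl <;>
    rcases sign_cases ht with rfl | rfl <;> decide

namespace Ctx

variable {D : Set G} {d : G} {n : ℕ} (C : Ctx D d n)

open scoped Classical in
/-- Minus one for commuting members, one otherwise. -/
noncomputable def chi (c c' : G) : ZMod 3 := if Commute c c' then -1 else 1

/-- The sign of an edge between nonorthogonal points. -/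
noncomputable def eps (c c' : G) : ZMod 3 := C.B (C.root c) (C.root c') * chi c c'

open scoped Classical in
/-- An auxiliary member over a point orthogonal to neither of two given ones. -/
noncomputable def aux (c₀ c : G) : G :=
  if h : ∃ s, Out D d s ∧ C.B (C.root c₀) (C.root s) ≠ 0 ∧ C.B (C.root c) (C.root s) ≠ 0 then h.choose else c₀

open scoped Classical in
/-- The sign of a member outside. -/
noncomputable def sigma (c₀ c : G) : ZMod 3 :=
  if C.B (C.root c₀) (C.root c) ≠ 0 then C.eps c₀ c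
  else C.eps c₀ (C.aux c₀ c) * C.eps (C.aux c₀ c) c

include C

theorem chi_comm (c c' : G) : chi c c' = chi c' c := by
  classical
  simp only [chi]
  exact if_congr ⟨fun h => h.symm, fun h => h.symm⟩ rfl rfl

theorem chi_ne (c c' : G) : chi c c' ≠ 0 := by
  classical
  simp only [chi]; split_ifs <;> decide

theorem eps_comm (c c' : G) : C.eps c c' = C.eps c' c := by rw [eps, eps, C.bsymm, C.chi_comm]

theorem eps_ne {c c' : G} (h : C.B (C.root c) (C.root c') ≠ 0) : C.eps c c' ≠ 0 :=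
  mul_ne_zero h (C.chi_ne c c')

theorem ne_symm' {c c' : G} (h : C.B (C.root c) (C.root c') ≠ 0) : C.B (C.root c') (C.root c) ≠ 0 := by
  rwa [C.bsymm]

theorem eps_twin {c : G} (hc : Out D d c) :
    ∃ t : ZMod 3, t ≠ 0 ∧ C.root (d * c * d) = t • C.root c ∧
      ∀ s, Out D d s → C.B (C.root s) (C.root c) ≠ 0 → C.eps s (d * c * d) = -t * C.eps s c := by
  classical
  obtain ⟨t, ht, htr⟩ : ∃ t : ZMod 3, t ≠ 0 ∧ C.root (d * c * d) = t • C.root c := by
    rcases C.root_twin hc with q | q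
    · exact ⟨1, one_ne_zero, by rw [q, one_smul]⟩
    · exact ⟨-1, by decide, by rw [q, neg_one_smul]⟩
  refine ⟨t, ht, htr, fun s hs h => ?_⟩
  have hx := C.commute_xor hs hc h
  rw [eps, eps, htr, map_smul, smul_eq_mul]
  simp only [chi]
  by_cases h1 : Commute s c
  · rw [if_pos h1, if_neg fun q => (hx.1 q) h1]; ring
  · rw [if_neg h1, if_pos (hx.2 h1)]; ring

/-- The product of the signs around a triangle is one. -/
theorem triangle_aux {c₁ c₂ c₃ : G} (h₁ : Out D d c₁) (h₂ : Out D d c₂) (h₃ : Out D d c₃)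
    (h12 : C.B (C.root c₁) (C.root c₂) ≠ 0) (h13 : C.B (C.root c₁) (C.root c₃) ≠ 0)
    (h23 : C.B (C.root c₂) (C.root c₃) ≠ 0) (k2 : Commute c₁ c₂) (k3 : Commute c₁ c₃) :
    C.eps c₁ c₂ * C.eps c₂ c₃ * C.eps c₁ c₃ = 1 := by
  classical
  obtain ⟨v, hv, hvr, hmv, hfv⟩ := C.exists_refl (C.root_spec h₁).2.1 (C.root_spec h₂).2.1 h12
  have hv1 := C.out_moves hv.2.2.symm h₁
  have hroot : C.root (v * c₁ * v⁻¹) = C.root c₂ ∨ C.root (v * c₁ * v⁻¹) = -C.root c₂ := by
    rcases C.root_moves (C.moves_self hv) h₁ with q | q <;> rcases hmv with p | p <;> simp [q, p]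
  have he : v * c₁ * v⁻¹ = d * c₂ * d :=
    (C.eq_or_twin h₂ hv1 hroot).resolve_left fun q => (C.twist h₁ hv hvr).1 (q ▸ k2)
  have hvv : C.B (C.f v) (C.root c₃) = 0 ↔
      C.B (C.root c₁) (C.root c₂) * C.B (C.root c₂) (C.root c₃) - C.B (C.root c₁) (C.root c₃) = 0 := by
    rcases hfv with q | q <;> rw [q] <;>
      simp only [map_neg, LinearMap.neg_apply, neg_eq_zero, map_sub, map_smul, LinearMap.sub_apply,
        LinearMap.smul_apply, smul_eq_mul]
  obtain ⟨t1, t2⟩ := triangle_values _ _ _ h12 h13 h23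
  have x23 := C.commute_xor h₃ h₂ (C.ne_symm' h23)
  simp only [eps, chi, if_pos k2, if_pos k3]
  by_cases k : Commute c₂ c₃
  · rw [if_pos k]
    refine t1 fun q => ?_
    have hcv : Commute c₃ v := (C.commute_iff_root h₃ hv).2 (hvv.2 q)
    refine x23.1 ?_ k.symm
    rw [← he]
    exact (hcv.mul_right k3.symm).mul_right hcv.inv_right
  · rw [if_neg k]
    refine t2 (hvv.1 ((C.commute_iff_root h₃ hv).1 ?_))
    have hvc : ¬ Commute c₁ v := fun q => hvr ((C.commute_iff_root h₁ hv).1 q)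
    have hc : Commute c₃ (d * c₂ * d) := x23.2 fun q => k q.symm
    rw [← he, inv_eq C.tr hv.1, braid C.tr hv.1 h₁.1 fun q => hvc q.symm] at hc
    have := (conj_commute_iff c₁ c₃ (c₁ * v * c₁)).2 hc
    rwa [inv_eq C.tr h₁.1, conj_self (sq_eq_one C.tr h₁.1) k3, ← mul_assoc, ← mul_assoc, sq_eq_one C.tr h₁.1,
      one_mul, mul_assoc, sq_eq_one C.tr h₁.1, mul_one] at this

theorem triangle {c₁ c₂ c₃ : G} (h₁ : Out D d c₁) (h₂ : Out D d c₂) (h₃ : Out D d c₃)
    (h12 : C.B (C.root c₁) (C.root c₂) ≠ 0) (h13 : C.B (C.root c₁) (C.root c₃) ≠ 0)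
    (h23 : C.B (C.root c₂) (C.root c₃) ≠ 0) : C.eps c₁ c₂ * C.eps c₂ c₃ * C.eps c₁ c₃ = 1 := by
  have norm' : ∀ {c : G}, Out D d c → C.B (C.root c₁) (C.root c) ≠ 0 → ∃ c' t, t ≠ 0 ∧ Out D d c' ∧
      Commute c₁ c' ∧ C.B (C.root c₁) (C.root c') ≠ 0 ∧
      ∀ s, Out D d s → C.B (C.root s) (C.root c) ≠ 0 →
        C.B (C.root s) (C.root c') ≠ 0 ∧ C.eps s c' = t * C.eps s c := by
    intro c hc h
    by_cases k : Commute c₁ c
    · exact ⟨c, 1, one_ne_zero, hc, k, h, fun s _ hs => ⟨hs, (one_mul _).symm⟩⟩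
    · obtain ⟨t, ht, htr, hte⟩ := C.eps_twin hc
      exact ⟨d * c * d, -t, neg_ne_zero.2 ht, C.out_twin hc, (C.commute_xor h₁ hc h).2 k,
        by rw [htr, map_smul]; exact mul_ne_zero ht h,
        fun s hs hh => ⟨by rw [htr, map_smul]; exact mul_ne_zero ht hh, hte s hs hh⟩⟩
  obtain ⟨a, s, hs0, ha, ka, h1a, hea⟩ := norm' h₂ h12
  obtain ⟨b, t, ht0, hb, kb, h1b, heb⟩ := norm' h₃ h13
  have hab := (heb a ha (by have := (hea c₃ h₃ (C.ne_symm' h23)).1; rwa [C.bsymm] at this)).1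
  have main := C.triangle_aux h₁ ha hb h1a h1b hab ka kb
  have e2 : C.eps a b = t * (s * C.eps c₂ c₃) := by
    rw [(heb a ha (by have := (hea c₃ h₃ (C.ne_symm' h23)).1; rwa [C.bsymm] at this)).2, C.eps_comm,
      (hea c₃ h₃ (C.ne_symm' h23)).2, C.eps_comm]
  rw [(hea c₁ h₁ h12).2, (heb c₁ h₁ h13).2, e2] at main
  have hsq : ∀ {x : ZMod 3}, x ≠ 0 → x * x = 1 := fun hx => by
    rcases sign_cases hx with q | q <;> rw [q] <;> decide
  calc C.eps c₁ c₂ * C.eps c₂ c₃ * C.eps c₁ c₃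
      = (s * s) * (t * t) * (C.eps c₁ c₂ * C.eps c₂ c₃ * C.eps c₁ c₃) := by rw [hsq hs0, hsq ht0]; ring
    _ = 1 := by rw [← main]; ring

/-- A singular vector with prescribed values against independent orthogonal singular ones. -/
theorem exists_singular₂ {r₀ r : Fin n → ZMod 3} (h0 : r₀ ≠ 0) (h00 : C.B r₀ r₀ = 0) (h01 : C.B r₀ r = 0)
    (hind : ∀ a : ZMod 3, a • r₀ ≠ r) (i : ZMod 3) :
    ∃ x, C.B x x = 0 ∧ C.B r₀ x = 1 ∧ C.B r x = i := by
  obtain ⟨g, hg⟩ := exists_eval C.symm C.nd ((LinearIndependent.pair_iff' h0).2 hind) ![1, i]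
  have g1 : C.B r₀ g = 1 := by simpa using hg 0
  have g2 : C.B r g = i := by simpa using hg 1
  refine ⟨g + C.B g g • r₀, ?_, ?_, ?_⟩
  · simp only [map_add, map_smul, LinearMap.add_apply, LinearMap.smul_apply, smul_eq_mul, g1, h00, C.bsymm g r₀]
    have h3 : (3 : ZMod 3) = 0 := by decide
    linear_combination C.B g g * h3
  · simp [g1, h00]
  · simp [g2, C.bsymm r r₀, h01]

theorem exists_both {c₀ c : G} (h₀ : Out D d c₀) (hc : Out D d c) (h : C.B (C.root c₀) (C.root c) = 0) :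
    ∃ s, Out D d s ∧ C.B (C.root c₀) (C.root s) ≠ 0 ∧ C.B (C.root c) (C.root s) ≠ 0 := by
  obtain ⟨a0, aa, -⟩ := C.root_spec h₀
  obtain ⟨b0, bb, -⟩ := C.root_spec hc
  obtain ⟨x, hxx, hx1, hx2⟩ : ∃ x, C.B x x = 0 ∧ C.B (C.root c₀) x ≠ 0 ∧ C.B (C.root c) x ≠ 0 := by
    by_cases hd : ∀ a : ZMod 3, a • C.root c₀ ≠ C.root c
    · obtain ⟨x, h1, h2, h3⟩ := C.exists_singular₂ a0 aa h hd 1
      exact ⟨x, h1, by rw [h2]; exact one_ne_zero, by rw [h3]; exact one_ne_zero⟩
    · push Not at hd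
      obtain ⟨a, ha⟩ := hd
      obtain ⟨f, hf, hff⟩ := exists_partner C.symm C.nd a0 aa
      refine ⟨f, hff, by rw [hf]; exact one_ne_zero, ?_⟩
      rw [← ha, map_smul, LinearMap.smul_apply, hf, smul_eq_mul, mul_one]
      exact fun q => b0 (by rw [← ha, q, zero_smul])
  have hx0 : x ≠ 0 := fun q => hx1 (by rw [q, map_zero])
  obtain ⟨s, hs, q | q⟩ := C.root_surj hx0 hxx
  · exact ⟨s, hs, by rw [q]; exact hx1, by rw [q]; exact hx2⟩
  · exact ⟨s, hs, by rw [q, map_neg, neg_ne_zero]; exact hx1, by rw [q, map_neg, neg_ne_zero]; exact hx2⟩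

/-- The sign of a member does not depend on the auxiliary one. -/
theorem sigma_indep {c₀ c s t : G} (h₀ : Out D d c₀) (hc : Out D d c) (h : C.B (C.root c₀) (C.root c) = 0)
    (hs : Out D d s) (ht : Out D d t) (hs0 : C.B (C.root c₀) (C.root s) ≠ 0) (hsc : C.B (C.root c) (C.root s) ≠ 0)
    (ht0 : C.B (C.root c₀) (C.root t) ≠ 0) (htc : C.B (C.root c) (C.root t) ≠ 0) :
    C.eps c₀ s * C.eps s c = C.eps c₀ t * C.eps t c := by
  obtain ⟨a0, aa, -⟩ := C.root_spec h₀
  obtain ⟨b0, bb, -⟩ := C.root_spec hc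
  have near : ∀ {p q : G}, Out D d p → Out D d q → C.B (C.root c₀) (C.root p) ≠ 0 →
      C.B (C.root c) (C.root p) ≠ 0 → C.B (C.root c₀) (C.root q) ≠ 0 → C.B (C.root c) (C.root q) ≠ 0 →
      C.B (C.root p) (C.root q) ≠ 0 → C.eps c₀ p * C.eps p c = C.eps c₀ q * C.eps q c := by
    intro p q hp hq p0 pc q0 qc hpq
    have e1 := C.triangle h₀ hp hq p0 q0 hpq
    have e2 := C.triangle hp hq hc hpq (C.ne_symm' pc) (C.ne_symm' qc)
    exact product_eq _ _ _ _ _ (C.eps_ne p0) (C.eps_ne (C.ne_symm' pc)) (C.eps_ne q0) (C.eps_ne (C.ne_symm' qc))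
      (C.eps_ne hpq) e1 e2
  by_cases hd : ∀ a : ZMod 3, a • C.root c₀ ≠ C.root c
  swap
  · push Not at hd
    obtain ⟨a, ha⟩ := hd
    have hpm : C.root c = C.root c₀ ∨ C.root c = -C.root c₀ := by
      rw [← ha]; exact pm_of_smul (fun q => b0 (by rw [← ha, q, zero_smul])) _
    have hsq : ∀ {x : ZMod 3}, x ≠ 0 → x * x = 1 := fun hx => by
      rcases sign_cases hx with q | q <;> rw [q] <;> decide
    rcases C.eq_or_twin h₀ hc hpm with rfl | rfl
    · rw [C.eps_comm s c, C.eps_comm t c, hsq (C.eps_ne hs0), hsq (C.eps_ne ht0)]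
    · obtain ⟨u, hu, -, hue⟩ := C.eps_twin h₀
      rw [hue s hs (C.ne_symm' hs0), hue t ht (C.ne_symm' ht0), C.eps_comm s c₀, C.eps_comm t c₀, mul_left_comm,
        hsq (C.eps_ne hs0), mul_left_comm (C.eps c₀ t), hsq (C.eps_ne ht0)]
  have sheet : ∀ p, C.B (C.root c₀) (C.root p) ≠ 0 → C.B (C.root c) (C.root p) ≠ 0 →
      ∃ x i : ZMod 3, x ≠ 0 ∧ i ≠ 0 ∧ C.B (C.root c₀) (x • C.root p) = 1 ∧ C.B (C.root c) (x • C.root p) = i := by
    intro p p0 pc
    refine ⟨C.B (C.root c₀) (C.root p), _, p0, ?_, ?_, rfl⟩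
    · rw [map_smul]; exact mul_ne_zero p0 pc
    · rw [map_smul, smul_eq_mul]; rcases sign_cases p0 with q | q <;> rw [q] <;> decide
  obtain ⟨xs, a, hxs, ha, hs1, hs2⟩ := sheet s hs0 hsc
  obtain ⟨xt, a', hxt, ha', ht1, ht2⟩ := sheet t ht0 htc
  -- a member over the opposite sheet, not orthogonal to given ones of this sheet
  have opp : ∀ {i : ZMod 3}, i ≠ 0 → ∀ p q : Fin n → ZMod 3, C.B (C.root c₀) p = 1 → C.B (C.root c) p = i →
      C.B (C.root c₀) q = 1 → C.B (C.root c) q = i → ∃ u : Fin n → ZMod 3, ∃ w, Out D d w ∧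
        (C.root w = u ∨ C.root w = -u) ∧ C.B (C.root c₀) u = 1 ∧ C.B (C.root c) u = -i ∧
        C.B p u ≠ 0 ∧ C.B q u ≠ 0 := by
    intro i hi p q p0 pc q0 qc
    obtain ⟨x, hxx, hx0, hxc⟩ := C.exists_singular₂ a0 aa h hd (-i)
    set z := C.root c + i • C.root c₀ with hz
    have hpz : C.B p z = 2 * i := by
      rw [hz, map_add, map_smul, C.bsymm p, C.bsymm p, p0, pc, smul_eq_mul]; ring
    have hqz : C.B q z = 2 * i := by
      rw [hz, map_add, map_smul, C.bsymm q, C.bsymm q, q0, qc, smul_eq_mul]; ring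
    obtain ⟨b, hb1, hb2⟩ := avoid_two (2 * i) (C.B p x) (C.B q x) (mul_ne_zero (by decide) hi)
    set u := x + b • z with hu
    have u0 : C.B (C.root c₀) u = 1 := by simp [hu, hz, hx0, h, aa]
    have uc : C.B (C.root c) u = -i := by simp [hu, hz, hxc, bb, C.bsymm (C.root c) (C.root c₀), h]
    have uu : C.B u u = 0 := by
      simp [hu, hz, hxx, aa, bb, h, C.bsymm (C.root c) (C.root c₀), C.bsymm x (C.root c),
        C.bsymm x (C.root c₀), hx0, hxc]
    obtain ⟨w, hw, hwu⟩ := C.root_surj (fun e => one_ne_zero (by rw [← u0, e, map_zero])) uu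
    exact ⟨u, w, hw, hwu, u0, uc, by rw [hu, map_add, map_smul, hpz]; exact hb1,
      by rw [hu, map_add, map_smul, hqz]; exact hb2⟩
  have unsmul : ∀ {x : ZMod 3} {p v : Fin n → ZMod 3}, C.B (x • p) v ≠ 0 → C.B p v ≠ 0 :=
    fun hh q => hh (by rw [map_smul, LinearMap.smul_apply, q, smul_zero])
  have pmne : ∀ {w : G} {u v : Fin n → ZMod 3}, (C.root w = u ∨ C.root w = -u) → C.B v u ≠ 0 →
      C.B v (C.root w) ≠ 0 := by
    rintro w u v (q | q) hv <;> rw [q]
    · exact hv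
    · rwa [map_neg, neg_ne_zero]
  have same : ∀ {p q : G}, Out D d p → Out D d q → ∀ {x y i : ZMod 3}, i ≠ 0 →
      C.B (C.root c₀) (x • C.root p) = 1 → C.B (C.root c) (x • C.root p) = i →
      C.B (C.root c₀) (y • C.root q) = 1 → C.B (C.root c) (y • C.root q) = i →
      C.B (C.root c₀) (C.root p) ≠ 0 → C.B (C.root c) (C.root p) ≠ 0 →
      C.B (C.root c₀) (C.root q) ≠ 0 → C.B (C.root c) (C.root q) ≠ 0 →
      C.eps c₀ p * C.eps p c = C.eps c₀ q * C.eps q c := by
    intro p q hp hq x y i hi e1 e2 e3 e4 p0 pc q0 qc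
    obtain ⟨u, w, hw, hwu, u0, uc, up, uq⟩ := opp hi _ _ e1 e2 e3 e4
    have w0 := pmne hwu (v := C.root c₀) (by rw [u0]; exact one_ne_zero)
    have wc := pmne hwu (v := C.root c) (by rw [uc]; exact neg_ne_zero.2 hi)
    exact (near hp hw p0 pc w0 wc (pmne hwu (unsmul up))).trans
      (near hq hw q0 qc w0 wc (pmne hwu (unsmul uq))).symm
  by_cases hsame : a = a'
  · subst hsame
    exact same hs ht ha hs1 hs2 ht1 ht2 hs0 hsc ht0 htc
  · have hopp : a' = -a := by
      rcases sign_cases ha with q | q <;> rcases sign_cases ha' with q' | q' <;> rw [q, q'] at hsame ⊢ <;>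
        simp at hsame ⊢
    obtain ⟨u, w, hw, hwu, u0, uc, us, -⟩ := opp ha _ _ hs1 hs2 hs1 hs2
    have w0 := pmne hwu (v := C.root c₀) (by rw [u0]; exact one_ne_zero)
    have wc := pmne hwu (v := C.root c) (by rw [uc]; exact neg_ne_zero.2 ha)
    refine (near hs hw hs0 hsc w0 wc (pmne hwu (unsmul us))).trans ?_
    obtain ⟨y, hy1, hy2⟩ : ∃ y : ZMod 3, C.B (C.root c₀) (y • C.root w) = 1 ∧
        C.B (C.root c) (y • C.root w) = a' := by
      rcases hwu with q | q
      · exact ⟨1, by rw [q, one_smul, u0], by rw [q, one_smul, uc, hopp]⟩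
      · exact ⟨-1, by rw [q, neg_one_smul, neg_neg, u0], by rw [q, neg_one_smul, neg_neg, uc, hopp]⟩
    exact same hw ht ha' hy1 hy2 ht1 ht2 w0 wc ht0 htc

theorem sigma_eq {c₀ c s : G} (h₀ : Out D d c₀) (hc : Out D d c) (h : C.B (C.root c₀) (C.root c) = 0)
    (hs : Out D d s) (hs0 : C.B (C.root c₀) (C.root s) ≠ 0) (hsc : C.B (C.root c) (C.root s) ≠ 0) :
    C.sigma c₀ c = C.eps c₀ s * C.eps s c := by
  have ha : C.aux c₀ c = (C.exists_both h₀ hc h).choose := dif_pos (C.exists_both h₀ hc h)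
  obtain ⟨k1, k2, k3⟩ := (C.exists_both h₀ hc h).choose_spec
  rw [sigma, if_neg (not_not.2 h), ha]
  exact C.sigma_indep h₀ hc h k1 hs k2 k3 hs0 hsc

theorem sigma_ne {c₀ c : G} (h₀ : Out D d c₀) (hc : Out D d c) : C.sigma c₀ c ≠ 0 := by
  by_cases h : C.B (C.root c₀) (C.root c) = 0
  · obtain ⟨s, hs, k1, k2⟩ := C.exists_both h₀ hc h
    rw [C.sigma_eq h₀ hc h hs k1 k2]
    exact mul_ne_zero (C.eps_ne k1) (C.eps_ne (C.ne_symm' k2))
  · rw [sigma, if_pos h]; exact C.eps_ne h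

/-- Along an edge between nonorthogonal points the signs multiply to its sign. -/
theorem sigma_edge {c₀ c c' : G} (h₀ : Out D d c₀) (hc : Out D d c) (hc' : Out D d c')
    (h : C.B (C.root c) (C.root c') ≠ 0) : C.sigma c₀ c * C.sigma c₀ c' = C.eps c c' := by
  have hsq : ∀ {x : ZMod 3}, x ≠ 0 → x * x = 1 := fun hx => by
    rcases sign_cases hx with q | q <;> rw [q] <;> decide
  have half : ∀ {x y : G}, Out D d x → Out D d y → C.B (C.root x) (C.root y) ≠ 0 →
      C.B (C.root c₀) (C.root x) = 0 → C.B (C.root c₀) (C.root y) ≠ 0 →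
      C.sigma c₀ x * C.sigma c₀ y = C.eps x y := by
    intro x y hx hy hxy h1 h2
    rw [C.sigma_eq h₀ hx h1 hy h2 hxy, sigma, if_pos h2, C.eps_comm y x, mul_right_comm, hsq (C.eps_ne h2), one_mul]
  by_cases h1 : C.B (C.root c₀) (C.root c) = 0 <;> by_cases h2 : C.B (C.root c₀) (C.root c') = 0
  · obtain ⟨a0, aa, -⟩ := C.root_spec h₀
    obtain ⟨-, rr, -⟩ := C.root_spec hc
    obtain ⟨-, rr', -⟩ := C.root_spec hc'
    have hli : LinearIndependent (ZMod 3) ![C.root c₀, C.root c, C.root c'] := by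
      rw [Fintype.linearIndependent_iff]
      intro g hg
      simp only [Fin.sum_univ_three, Matrix.cons_val] at hg
      have e1 := congrArg (fun x => C.B x (C.root c')) hg
      have e2 := congrArg (fun x => C.B x (C.root c)) hg
      simp [h2, rr', h] at e1
      simp [h1, rr, C.bsymm (C.root c') (C.root c), h] at e2
      intro i
      fin_cases i
      · by_contra q
        exact a0 ((smul_eq_zero.1 (by simpa [e1, e2] using hg)).resolve_left q)
      · exact e1
      · exact e2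
    obtain ⟨x, hx⟩ := exists_eval C.symm C.nd hli ![1, 1, 1]
    have x0 : C.B (C.root c₀) x = 1 := by simpa using hx 0
    have x1 : C.B (C.root c) x = 1 := by simpa using hx 1
    have x2 : C.B (C.root c') x = 1 := by simpa using hx 2
    set u := x + C.B x x • C.root c₀ with hu
    have u0 : C.B (C.root c₀) u = 1 := by simp [hu, x0, aa]
    have u1 : C.B (C.root c) u = 1 := by simp [hu, x1, C.bsymm (C.root c) (C.root c₀), h1]
    have u2 : C.B (C.root c') u = 1 := by simp [hu, x2, C.bsymm (C.root c') (C.root c₀), h2]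
    have uu : C.B u u = 0 := by
      simp only [hu, map_add, map_smul, LinearMap.add_apply, LinearMap.smul_apply, smul_eq_mul, x0, aa,
        C.bsymm x (C.root c₀)]
      have h3 : (3 : ZMod 3) = 0 := by decide
      linear_combination C.B x x * h3
    obtain ⟨s, hs, hsu⟩ := C.root_surj (fun e => one_ne_zero (by rw [← u0, e, map_zero])) uu
    have pm : ∀ {w : Fin n → ZMod 3}, C.B w u = 1 → C.B w (C.root s) ≠ 0 := fun hw => by
      rcases hsu with q | q <;> rw [q]
      · rw [hw]; exact one_ne_zero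
      · rw [map_neg, hw]; decide
    rw [C.sigma_eq h₀ hc h1 hs (pm u0) (pm u1), C.sigma_eq h₀ hc' h2 hs (pm u0) (pm u2),
      mul_mul_mul_comm, hsq (C.eps_ne (pm u0)), one_mul]
    have tr := C.triangle hs hc hc' (C.ne_symm' (pm u1)) (C.ne_symm' (pm u2)) h
    exact (unit_identity _ _ _ (C.eps_ne (C.ne_symm' (pm u1))) (C.eps_ne h) (C.eps_ne (C.ne_symm' (pm u2))) tr).2
  · exact half hc hc' h h1 h2
  · rw [mul_comm, C.eps_comm]
    exact half hc' hc (C.ne_symm' h) h2 h1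
  · rw [sigma, if_pos h1, sigma, if_pos h2]
    exact (unit_identity _ _ _ (C.eps_ne h1) (C.eps_ne h) (C.eps_ne h2) (C.triangle h₀ hc hc' h1 h2 h)).2

end Ctx

end Cfsg.Lib.Fischer.Refl
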