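import Cfsg.Agent.Fischer.Refl.Basic

/-!
The trace of a noncommuting pair at one of its members: the members of a hyperplane section.
-/

set_option autoImplicit false
set_option linter.unusedSectionVars false

namespace Cfsg.Lib.Fischer.Refl

open Cfsg Subgroup Cfsg.Lib.ThreeTr
open LinearMap (BilinForm)
open Module (finrank)

universe u

variable {G : Type u} [Group G] [Finite G]

/-- A position relative to the line of two noncommuting members that involves commuting only. -/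
def Pat (e₁ e₂ e : G) : Prop :=
  (e = e₁ ∨ e = e₂ ∨ e = e₁ * e₂ * e₁) ∨
    ((Commute e e₁ ↔ Commute e e₂) ∧ (Commute e e₁ ↔ Commute e (e₁ * e₂ * e₁)))

theorem pat_conj (g e₁ e₂ e : G) :
    Pat (g * e₁ * g⁻¹) (g * e₂ * g⁻¹) (g * e * g⁻¹) ↔ Pat e₁ e₂ e := by
  have h : g * e₁ * g⁻¹ * (g * e₂ * g⁻¹) * (g * e₁ * g⁻¹) = g * (e₁ * e₂ * e₁) * g⁻¹ := by group
  simp only [Pat, h, conj_commute_iff, mul_left_inj, mul_right_inj]

theorem pat_values : ∀ k j m : ZMod 3, k ≠ 0 →
    (k * m - j = 0 ↔ ((j = 0 ↔ m = 0) ∧ (j = 0 ↔ k * j + m = 0))) := by decide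

namespace Ctx

variable {D : Set G} {d : G} {n : ℕ} (C : Ctx D d n)

/-- The singular vector of a noncommuting pair of members. -/
def dir (x y : G) : Fin n → ZMod 3 := C.B (C.f x) (C.f y) • C.f y - C.f x

/-- The trace of the pair `d, c` at its member `y` is the section by `r`. -/
def IsTr (c y : G) (r : Fin n → ZMod 3) : Prop :=
  r ≠ 0 ∧ C.B r r = 0 ∧ C.B (C.f y) r = 0 ∧
    ∀ e ∈ perp D d, C.B (C.f e) (C.f y) = 0 → (e ∈ common D d c ↔ C.B (C.f e) r = 0)

include C

theorem orth_of_perp {x y : G} (hx : x ∈ perp D d) (hy : y ∈ perp D d) (h : y ∈ perp D x) :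
    C.B (C.f y) (C.f x) = 0 :=
  ((C.comm_iff hy hx).1 h.2.2.symm).resolve_left h.2.1

theorem perp_of_orth {x y : G} (hx : x ∈ perp D d) (hy : y ∈ perp D d) (h : C.B (C.f y) (C.f x) = 0) :
    y ∈ perp D x :=
  ⟨hy.1, C.ne_of_orth hy h, (C.commute_of_orth hy hx h).symm⟩

theorem dir_spec {x y : G} (hx : x ∈ perp D d) (hy : y ∈ perp D d) (h : ¬ Commute x y) :
    C.B (C.f x) (C.f y) ≠ 0 ∧ C.dir x y ≠ 0 ∧ C.B (C.dir x y) (C.dir x y) = 0 ∧
      C.B (C.f x) (C.dir x y) = 0 := by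
  have hk : C.B (C.f x) (C.f y) ≠ 0 := fun e => h (C.commute_of_orth hx hy e)
  have hkk : C.B (C.f x) (C.f y) * C.B (C.f x) (C.f y) = 1 := by
    rcases sign_cases hk with e | e <;> rw [e] <;> decide
  refine ⟨hk, fun e => ?_, ?_, ?_⟩
  · have e' : C.B (C.f x) (C.f y) • C.f y = C.f x := sub_eq_zero.1 e
    have : x = y := C.eq_of hx hy (by
      rcases sign_cases hk with q | q <;> rw [q] at e'
      · exact Or.inl (by simpa using e')
      · exact Or.inr (by rw [← e']; simp))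
    exact h (this ▸ Commute.refl x)
  · simp only [dir, map_sub, map_smul, LinearMap.sub_apply, LinearMap.smul_apply, smul_eq_mul, C.norm hx, C.norm hy,
      C.bsymm (C.f y) (C.f x)]
    linear_combination (-1 : ZMod 3) * hkk
  · simp only [dir, map_sub, map_smul, smul_eq_mul, C.norm hx, hkk, sub_self]

theorem line_char {e₁ e₂ e : G} (h₁ : e₁ ∈ perp D d) (h₂ : e₂ ∈ perp D d) (h : ¬ Commute e₁ e₂)
    (he : e ∈ perp D d) : C.B (C.f e) (C.dir e₁ e₂) = 0 ↔ Pat e₁ e₂ e := by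
  obtain ⟨hk, -, -, hperp⟩ := C.dir_spec h₁ h₂ h
  set k := C.B (C.f e₁) (C.f e₂) with hkdef
  have h₃ := C.conj_perp h₁ h₂
  have hl := C.conj_label h₁ h₂
  rw [C.bsymm (C.f e₂) (C.f e₁), ← hkdef] at hl
  have hkk : k * k = 1 := by rcases sign_cases hk with q | q <;> rw [q] <;> decide
  have hval : C.B (C.f e) (C.dir e₁ e₂) = k * C.B (C.f e) (C.f e₂) - C.B (C.f e) (C.f e₁) := by
    simp [dir, ← hkdef]
  by_cases hmem : e = e₁ ∨ e = e₂ ∨ e = e₁ * e₂ * e₁
  · refine iff_of_true ?_ (Or.inl hmem)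
    have h3 : (3 : ZMod 3) = 0 := by decide
    rcases hmem with rfl | rfl | rfl
    · exact hperp
    · rw [hval, C.norm h₂, C.bsymm (C.f e) (C.f e₁), ← hkdef, mul_one, sub_self]
    · rw [hval]
      rcases hl with q | q <;> rw [q] <;>
        simp only [map_add, map_neg, map_smul, LinearMap.add_apply, LinearMap.neg_apply, LinearMap.smul_apply,
          smul_eq_mul, C.norm h₁, C.norm h₂, C.bsymm (C.f e₂) (C.f e₁), ← hkdef]
      · linear_combination k * hkk - k * (1 : ZMod 3) * h3 + k * h3 + (0 : ZMod 3) * hkk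
      · linear_combination -(k * hkk) + k * h3 - k * h3
  · rw [hval, pat_values k _ _ hk]
    push Not at hmem
    obtain ⟨n1, n2, n3⟩ := hmem
    have hc : ∀ {z : G}, z ∈ perp D d → e ≠ z → (Commute e z ↔ C.B (C.f e) (C.f z) = 0) :=
      fun hz hne => by rw [C.comm_iff he hz]; simp [hne]
    simp only [Pat, n1, n2, n3, or_false, false_or, hc h₁ n1, hc h₂ n2, hc h₃ n3]
    have : C.B (C.f e) (C.f (e₁ * e₂ * e₁)) = 0 ↔ k * C.B (C.f e) (C.f e₁) + C.B (C.f e) (C.f e₂) = 0 := by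
      rcases hl with q | q <;> rw [q] <;> simp only [map_neg, map_add, map_smul, smul_eq_mul, neg_eq_zero] <;>
        rw [add_comm]
    rw [this]

/-- Membership in the common neighbours of two noncommuting members inside the perp set. -/
theorem mem_common_inner {p q u : G} (hp : p ∈ perp D d) (hq : q ∈ perp D d) (h : ¬ Commute p q)
    (hu : u ∈ perp D d) :
    u ∈ common (perp D d) p q ↔ C.B (C.f u) (C.f p) = 0 ∧ C.B (C.f u) (C.dir p q) = 0 := by
  obtain ⟨hk, -⟩ := C.dir_spec hp hq h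
  have key : ∀ {z : G}, z ∈ perp D d → (u ∈ perp (perp D d) z ↔ C.B (C.f u) (C.f z) = 0) := fun hz =>
    ⟨fun hh => ((C.comm_iff hu hz).1 hh.2.2.symm).resolve_left hh.2.1,
      fun hh => ⟨hu, C.ne_of_orth hu hh, (C.commute_of_orth hu hz hh).symm⟩⟩
  show u ∈ perp (perp D d) p ∧ u ∈ perp (perp D d) q ↔ _
  rw [key hp, key hq]
  refine and_congr_right fun h0 => ?_
  simp [dir, h0, hk]

/-- The trace at a member is a section by a singular vector. -/
theorem exists_isTr {c y : G} (hc : c ∈ D) (hdc : ¬ Commute d c) (hy : y ∈ common D d c) :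
    ∃ r, C.IsTr c y r := by
  obtain ⟨g, -, hp, hq, hpq, hperp, hcom⟩ := exists_view C.setting.rich C.hd hc hdc hy
  obtain ⟨-, hr0, hrr, hpr⟩ := C.dir_spec hp hq hpq
  have hyE : y ∈ perp D d := hy.1
  obtain ⟨w, hwp, hw, hwr⟩ := one_orth_compl C.symm C.nd (C.gram_one hp) regular_one
    (by have := C.hn; rw [C.dim]; omega) (a := C.dir (g * d * g⁻¹) (g * c * g⁻¹))
    (fun i => by fin_cases i; simpa using hpr) hrr
  have hwp' : C.B (C.f (g * d * g⁻¹)) w = 0 := by simpa using hwp 0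
  set r' := C.dir (g * d * g⁻¹) (g * c * g⁻¹) with hr'
  set p := g * d * g⁻¹ with hpdef
  obtain ⟨l₁, hl₁, hf₁⟩ := C.exists_mem hw
  obtain ⟨l₂, hl₂, hf₂⟩ := C.exists_mem (v := w + r') (by simp [hw, hrr, hwr, C.bsymm w r'])
  have hin : ∀ l ∈ perp D d, C.B (C.f p) (C.f l) = 0 → C.B r' (C.f l) = 0 →
      ∃ e, e ∈ common D d c ∧ e ∈ perp D y ∧ g * e * g⁻¹ = l := by
    intro l hl h1 h2
    refine ⟨g⁻¹ * l * g, ?_⟩
    have e : g * (g⁻¹ * l * g) * g⁻¹ = l := by group
    have := (hcom (g⁻¹ * l * g)).1 (e.symm ▸ (C.mem_common_inner hp hq hpq hl).2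
      ⟨by rw [C.bsymm]; exact h1, by rw [C.bsymm]; exact h2⟩)
    exact ⟨this.1, this.2, e⟩
  obtain ⟨e₁, he₁, hey₁, hg₁⟩ := hin l₁ hl₁ (by rcases hf₁ with q | q <;> simp [q, hwp'])
    (by rcases hf₁ with q | q <;> simp [q, hwr])
  obtain ⟨e₂, he₂, hey₂, hg₂⟩ := hin l₂ hl₂ (by rcases hf₂ with q | q <;> simp [q, hwp', hpr])
    (by rcases hf₂ with q | q <;> simp [q, hwr, hrr])
  have hb : C.B (C.f l₁) (C.f l₂) ≠ 0 := by
    rcases hf₁ with q | q <;> rcases hf₂ with q' | q' <;> simp [q, q', hw, C.bsymm w r', hwr]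
  have hl12 : ¬ Commute l₁ l₂ := fun hh => ((C.comm_iff hl₁ hl₂).1 hh).elim
    (fun e => by
      subst e
      rcases hf₁ with q | q <;> rcases hf₂ with q' | q' <;> rw [q] at q'
      · exact hr0 (by simpa using q')
      · have := congrArg (fun v => C.B w v) q'
        simp [hw, C.bsymm w r', hwr] at this
        exact absurd this (by decide)
      · have := congrArg (fun v => C.B w v) q'
        simp [hw, C.bsymm w r', hwr] at this
        exact absurd this (by decide)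
      · exact hr0 (by simpa using q')) hb
  have he12 : ¬ Commute e₁ e₂ := fun hh => hl12 (hg₁ ▸ hg₂ ▸ (conj_commute_iff g e₁ e₂).2 hh)
  have hE₁ : e₁ ∈ perp D d := he₁.1
  have hE₂ : e₂ ∈ perp D d := he₂.1
  obtain ⟨-, ha0, haa, -⟩ := C.dir_spec hE₁ hE₂ he12
  refine ⟨C.dir e₁ e₂, ha0, haa, ?_, fun e he hey => ?_⟩
  · simp [dir, C.bsymm (C.f y), C.orth_of_perp hyE hE₁ hey₁, C.orth_of_perp hyE hE₂ hey₂]
  have hey' : e ∈ perp D y := C.perp_of_orth hyE he hey
  have hu : g * e * g⁻¹ ∈ perp D d := (hperp e).2 hey'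
  have hup : C.B (C.f (g * e * g⁻¹)) (C.f p) = 0 := by
    refine ((C.comm_iff hu hp).1 ((conj_commute_iff g e d).2 he.2.2.symm)).resolve_left fun hh => ?_
    exact he.2.1 (mul_left_cancel (mul_right_cancel hh))
  rw [C.line_char hE₁ hE₂ he12 he, ← pat_conj g, hg₁, hg₂, ← C.line_char hl₁ hl₂ hl12 hu,
    ← and_iff_left (a := e ∈ common D d c) hey', ← hcom e, C.mem_common_inner hp hq hpq hu, and_iff_right hup,
    ← hr']
  have hdir : C.dir l₁ l₂ = r' ∨ C.dir l₁ l₂ = -r' := by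
    rcases hf₁ with q | q <;> rcases hf₂ with q' | q' <;> simp [dir, q, q', hw, C.bsymm w r', hwr]
  rcases hdir with q | q <;> simp [q]

theorem isTr_unique {c y : G} {r s : Fin n → ZMod 3} (hy : y ∈ perp D d) (hr : C.IsTr c y r)
    (hs : C.IsTr c y s) : s = r ∨ s = -r :=
  C.trace_perp hy hr.2.2.1 hs.2.2.1 hr.1 hr.2.1 hs.1 hs.2.1 fun e he hey her =>
    (hs.2.2.2 e he hey).1 ((hr.2.2.2 e he hey).2 her)

/-- A trace at a member is shared by the two members over a point only. -/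
theorem eq_of_isTr {c c' y : G} {r : Fin n → ZMod 3} (hc : c ∈ D) (hdc : ¬ Commute d c) (hc' : c' ∈ D)
    (hdc' : ¬ Commute d c') (hy : y ∈ common D d c) (hy' : y ∈ common D d c') (h : C.IsTr c y r)
    (h' : C.IsTr c' y r) : c' = c ∨ c' = d * c * d := by
  obtain ⟨g, -, hp, hq, hpq, hperp, hcom⟩ := exists_view C.setting.rich C.hd hc hdc hy
  set p := g * d * g⁻¹ with hpdef
  set q := g * c * g⁻¹ with hqdef
  set q₁ := g * c' * g⁻¹ with hq₁def
  have hq₁ : q₁ ∈ perp D d := (hperp c').2 (mem_perp_comm hc' hy'.2)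
  have hpq₁ : ¬ Commute p q₁ := fun hh => hdc' ((conj_commute_iff g d c').1 hh)
  obtain ⟨hk, hr0, hrr, hpr⟩ := C.dir_spec hp hq hpq
  obtain ⟨hk₁, hr₁0, hr₁r, hpr₁⟩ := C.dir_spec hp hq₁ hpq₁
  have hyE : y ∈ perp D d := hy.1
  have key := C.trace_perp hp hpr hpr₁ hr0 hrr hr₁0 hr₁r fun u hu hup hur => by
    have e : g * (g⁻¹ * u * g) * g⁻¹ = u := by group
    obtain ⟨heT, hey⟩ := (hcom (g⁻¹ * u * g)).1 (e.symm ▸ (C.mem_common_inner hp hq hpq hu).2 ⟨hup, hur⟩)
    have hey0 := C.orth_of_perp hyE heT.1 hey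
    have heT' : g⁻¹ * u * g ∈ common D d c' := (h'.2.2.2 _ heT.1 hey0).2 ((h.2.2.2 _ heT.1 hey0).1 heT)
    have hcu : Commute q₁ u := e ▸ (conj_commute_iff g c' _).2 heT'.2.2.2
    have huq : C.B (C.f u) (C.f q₁) = 0 := ((C.comm_iff hu hq₁).1 hcu.symm).resolve_left fun hh =>
      hk₁ (by rw [C.bsymm, ← hh]; exact hup)
    simp [dir, hup, huq]
  have hback : ∀ z, q₁ = g * z * g⁻¹ → c' = z := fun z hz => mul_left_cancel (mul_right_cancel hz)
  rcases key with e | e
  · refine Or.inl (hback c (C.eq_of hq hq₁ ?_).symm)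
    have e' : C.B (C.f p) (C.f q₁) • C.f q₁ = C.B (C.f p) (C.f q) • C.f q := sub_left_injective e
    rcases sign_cases hk with a | a <;> rcases sign_cases hk₁ with b | b <;> rw [a, b] at e' <;>
      simp only [one_smul, neg_one_smul] at e'
    exacts [Or.inl e', Or.inr (by rw [← e', neg_neg]), Or.inr e', Or.inl (neg_injective e')]
  · refine Or.inr (hback _ ?_)
    rw [show g * (d * c * d) * g⁻¹ = p * q * p by rw [hpdef, hqdef]; group]
    refine (C.eq_of (C.conj_perp hp hq) hq₁ ?_).symm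
    set k := C.B (C.f p) (C.f q) with hkdef
    have hkk : k * k = 1 := by rcases sign_cases hk with a | a <;> rw [a] <;> decide
    have hlk : C.B (C.f p) (C.f q₁) • C.f q₁ = -(k • (k • C.f p + C.f q)) := by
      rw [smul_add, smul_smul, hkk, one_smul]
      funext i
      have h3 : (3 : ZMod 3) = 0 := by decide
      have := congrFun e i
      simp only [dir, ← hkdef, Pi.sub_apply, Pi.smul_apply, Pi.neg_apply, Pi.add_apply, smul_eq_mul] at this ⊢
      linear_combination this + C.f p i * h3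
    have hsm : C.f q₁ = k • C.f p + C.f q ∨ C.f q₁ = -(k • C.f p + C.f q) := by
      rcases sign_cases hk₁ with b | b <;> rw [b] at hlk <;>
        simp only [one_smul, neg_one_smul, neg_inj] at hlk <;>
        rcases pm_of_smul hk (k • C.f p + C.f q) with a | a <;> rw [a] at hlk
      exacts [Or.inr hlk, Or.inl (by rw [hlk, neg_neg]), Or.inl hlk, Or.inr hlk]
    rcases C.conj_label hp hq with a | a <;> rw [C.bsymm (C.f q) (C.f p), ← hkdef, add_comm] at a <;>
      rcases hsm with b | b <;> rw [a, b]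
    exacts [Or.inl rfl, Or.inr rfl, Or.inr (neg_neg _).symm, Or.inl rfl]

/-- The two members over a point have the same trace. -/
theorem common_twin {c e : G} (hc : c ∈ D) : e ∈ common D d (d * c * d) ↔ e ∈ common D d c := by
  have key : ∀ {x : G}, x ∈ D → e ∈ common D d x → e ∈ common D d (d * x * d) := by
    intro x hx hh
    refine ⟨hh.1, hh.2.1, fun h => hh.2.2.1 ?_, ?_⟩
    · have hce : Commute d (d * x * d) := h ▸ hh.1.2.2
      have : Commute d x := by
        have := (conj_commute_iff d d (d * x * d)).2 hce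
        rwa [mul_inv_cancel_right, inv_eq C.tr C.hd, ← mul_assoc, ← mul_assoc, sq_eq_one C.tr C.hd, one_mul,
          mul_assoc, sq_eq_one C.tr C.hd, mul_one] at this
      rw [h, conj_self (sq_eq_one C.tr C.hd) this]
    · exact ((hh.1.2.2.symm.mul_right hh.2.2.2.symm).mul_right hh.1.2.2.symm).symm
  refine ⟨fun h => ?_, key hc⟩
  have := key (C.conj_perp' hc) h
  rwa [← mul_assoc, ← mul_assoc, sq_eq_one C.tr C.hd, one_mul, mul_assoc, sq_eq_one C.tr C.hd, mul_one] at this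

end Ctx

end Cfsg.Lib.Fischer.Refl
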